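import Groth.Agent.Lefpen.H121.CurveForm
import Groth.Agent.Lefpen.H708.Bertini
import Groth.Agent.Lefpen.H708.Geo
import Groth.Agent.Picfga.LineHom
import Groth.Agent.Ega2.GeoRelDim

/-!
# Smooth hyperplane sections and their ideals

* `nonempty_iso`: for `i : X ⟶ P^N_k` and a form `H` of degree `b` which is a nonzerodivisor on the charts,
  the ideal module of `X ∩ V(H)` is `i^* O(-b)`.
* `exists_hyperplane`: Bertini.
-/

set_option autoImplicit false
universe u

open CategoryTheory AlgebraicGeometry Limits TopologicalSpace Opposite MvPolynomial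

namespace K934.HypIso

open LefPen Groth.Agent Groth.Agent.Lefpen.H705.HypIdeal Groth.Agent.Lefpen.H705.SecIdeal
open Groth.Agent.Lefpen.H705.ChartPoly Groth.Agent.Sga5 Groth.Agent.Fdesc.LocGen
open Groth.Agent.Lefpen.H121.ChartLift Groth.Agent.FormalB Groth.Agent.Dix.IdealModCartier
open Groth.Agent.Lefpen.H121.CurveForm Groth.Agent.Picfga.LineHom

variable {N : ℕ} {k : Type u} [Field k] {X : Scheme.{u}} (ι : X ⟶ CohB1.ProjSpace N k)

/-- The local equation of a form. -/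
noncomputable def le (j : Fin (N + 1)) {D : ℕ} (F : Form N k D) : Γ(X, ι ⁻¹ᵁ chart N k j) :=
  (ι.app (chart N k j)).hom (LefPen.dehom F j)

theorem le_eq_eqn (j : Fin (N + 1)) {D : ℕ} (F : Form N k D) :
    le ι j F = eqn ι j (ι ⁻¹ᵁ chart N k j) le_rfl F := by
  rw [le, eqn, Scheme.Hom.app_eq_appLE]

/-- The coordinate functions. -/
noncomputable abbrev rt (i j : Fin (N + 1)) : Γ(X, ι ⁻¹ᵁ chart N k i) :=
  (ι.app (chart N k i)).hom (ratio i j)

theorem ores_le (i j : Fin (N + 1)) {D : ℕ} (F : Form N k D) :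
    ores (inf_le_left : ι ⁻¹ᵁ chart N k i ⊓ ι ⁻¹ᵁ chart N k j ≤ _) (le ι i F) =
      ores (inf_le_left : ι ⁻¹ᵁ chart N k i ⊓ ι ⁻¹ᵁ chart N k j ≤ _) (rt ι i j) ^ D *
        ores (inf_le_right : ι ⁻¹ᵁ chart N k i ⊓ ι ⁻¹ᵁ chart N k j ≤ _) (le ι j F) := by
  have h1 := ores_dehom F i j (chart N k i ⊓ chart N k j) inf_le_left inf_le_right
  have h2 := congrArg (ι.app (chart N k i ⊓ chart N k j)).hom h1
  rw [map_mul, map_pow, ← ores_app, ← ores_app, ← ores_app] at h2
  exact h2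

theorem exists_gens_pullback (e : ℤ) :
    ∃ g : ∀ i : Fin (N + 1), Γ((Scheme.Modules.pullback ι).obj (Twist.twistProjSpace N k e), ι ⁻¹ᵁ chart N k i),
      (∀ i, IsGen (g i)) ∧
      ∀ i j, ores (inf_le_left : ι ⁻¹ᵁ chart N k i ⊓ ι ⁻¹ᵁ chart N k j ≤ _) (rt ι i j) ^ e.toNat •
          res _ (inf_le_left : ι ⁻¹ᵁ chart N k i ⊓ ι ⁻¹ᵁ chart N k j ≤ _) (g i) =
        ores (inf_le_left : ι ⁻¹ᵁ chart N k i ⊓ ι ⁻¹ᵁ chart N k j ≤ _) (rt ι i j) ^ (-e).toNat •
          res _ (inf_le_right : ι ⁻¹ᵁ chart N k i ⊓ ι ⁻¹ᵁ chart N k j ≤ _) (g j) := by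
  obtain ⟨g, hg, hg'⟩ := exists_gens (N := N) (k := k) e
  refine ⟨fun i => pullSec ι (g i), fun i => (hg i).pullSec ι, fun i j => ?_⟩
  have h1 := congrArg (pullSec ι) (hg' i j)
  rw [pullSec_smul, pullSec_smul, ← res_pullSec, ← res_pullSec] at h1
  have h2 : ∀ m : ℕ, (ι.app (chart N k i ⊓ chart N k j)
      (ores (inf_le_left : chart N k i ⊓ chart N k j ≤ _) (ratio i j) ^ m)) =
      ores (inf_le_left : ι ⁻¹ᵁ chart N k i ⊓ ι ⁻¹ᵁ chart N k j ≤ _) (rt ι i j) ^ m := by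
    intro m
    refine (map_pow (ι.app (chart N k i ⊓ chart N k j)).hom _ m).trans ?_
    congr 1
    exact (ores_app ι (inf_le_left : chart N k i ⊓ chart N k j ≤ chart N k i) (ratio i j)).symm
  rw [h2, h2] at h1
  exact h1

section Step

variable [IsAffineHom ι] {b : ℕ} (H : Form N k b)

/-- The affine chart. -/
theorem aff (i : Fin (N + 1)) : IsAffineOpen (ι ⁻¹ᵁ chart N k i) := (isAffineOpen_chart i).preimage ι

/-- The ideal on the charts. -/
theorem comap_ideal (i : Fin (N + 1)) :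
    ((hypIdeal H).comap ι).ideal ⟨ι ⁻¹ᵁ chart N k i, aff ι i⟩ = Ideal.span {le ι i H} := by
  have h1 := secIdeal_ideal_of_le ι ({H} : Set (Form N k b)) i ⟨ι ⁻¹ᵁ chart N k i, aff ι i⟩ le_rfl
  rw [Set.image_singleton, ← le_eq_eqn] at h1
  have h2 : secIdeal ι ({H} : Set (Form N k b)) = (hypIdeal H).comap ι := by
    rw [secIdeal, iSup_singleton]
  rw [← h2, h1]

variable (hreg : ∀ i, le ι i H ∈ nonZeroDivisors Γ(X, ι ⁻¹ᵁ chart N k i))

include hreg

/-- The ideal module of `X ∩ V(H)` in `X` is `O_X(-b)`. -/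
theorem nonempty_iso : Nonempty (ClSub.idealMod ((hypIdeal H).comap ι) ≅
    (Scheme.Modules.pullback ι).obj (Twist.twistProjSpace N k (-(b : ℤ)))) := by
  obtain ⟨g, hg, hrel⟩ := exists_gens_pullback ι (-(b : ℤ))
  have hn : ∀ i, ∃ n : Γ(ClSub.idealMod ((hypIdeal H).comap ι), ι ⁻¹ᵁ chart N k i),
      val ((hypIdeal H).comap ι) n = le ι i H := fun i =>
    exists_val_eq _ ⟨ι ⁻¹ᵁ chart N k i, aff ι i⟩ (by
      rw [comap_ideal]; exact Ideal.mem_span_singleton_self _)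
  choose n hn using hn
  have gn : ∀ i, IsGen (n i) := fun i => isGen_of_genOn ((hn i).symm ▸
    genOn_of_affine (U := ⟨ι ⁻¹ᵁ chart N k i, aff ι i⟩) (hreg i) (comap_ideal ι H i))
  obtain ⟨φ, -⟩ := exists_iso (L := (Scheme.Modules.pullback ι).obj (Twist.twistProjSpace N k (-(b : ℤ))))
    (N := ClSub.idealMod ((hypIdeal H).comap ι))
    (Groth.Agent.Lefpen.H708.Geo.iSup_preimage_chart ι) (e := g) hg (n := n)
    (trans_of_inf hg (by
      intro i j
      refine ⟨ores (inf_le_left : ι ⁻¹ᵁ chart N k i ⊓ ι ⁻¹ᵁ chart N k j ≤ _) (rt ι i j) ^ b, ?_, ?_⟩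
      · have h1 := hrel i j
        have h2 : (-(b : ℤ)).toNat = 0 := Int.toNat_of_nonpos (by omega)
        have h3 : (- -(b : ℤ)).toNat = b := by simp
        rw [h2, h3, pow_zero, one_smul] at h1
        exact h1
      · apply val_injective
        rw [val_smul, val_res, val_res, hn, hn]
        exact ores_le ι i j H)) gn
  exact ⟨φ.symm⟩

end Step

/-- Bertini: a smooth hyperplane section. -/
theorem exists_hyperplane [IsAlgClosed k] [IsClosedImmersion ι] [IsIntegral X] (n : ℕ)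
    [SmoothOfRelativeDimension (n + 1) (ι ≫ CohB1.ProjSpace.toSpec N k)] :
    ∃ I : X.IdealSheafData, SmoothOfRelativeDimension n (I.subschemeι ≫ ι ≫ CohB1.ProjSpace.toSpec N k) ∧
      Nonempty (ClSub.idealMod I ≅ (Scheme.Modules.pullback ι).obj (Twist.twistProjSpace N k (-1))) := by
  obtain ⟨H, hH⟩ := Groth.Agent.Lefpen.H702.PolyFun.IsGeneric.nonempty
    (Groth.Agent.Lefpen.H708.Bertini.isGeneric_transversal (d := 1) ι (n + 1) le_rfl)
  have h2 : secIdeal ι ({H} : Set (Form N k 1)) = (hypIdeal H).comap ι := by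
    rw [secIdeal, iSup_singleton]
  have h3 : SmoothOfRelativeDimension n (((hypIdeal H).comap ι).subschemeι ≫ ι ≫ CohB1.ProjSpace.toSpec N k) := by
    rw [← h2]
    rcases hH with ⟨-, h⟩ | ⟨h, -⟩
    · exact h
    · omega
  refine ⟨(hypIdeal H).comap ι, h3, ?_⟩
  have h4 : ∀ i, le ι i H ∈ nonZeroDivisors Γ(X, ι ⁻¹ᵁ chart N k i) := by
    by_contra hcon
    push Not at hcon
    obtain ⟨i, hi⟩ := hcon
    have hne : Nonempty (ι ⁻¹ᵁ chart N k i) := by
      by_contra hE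
      rw [not_nonempty_iff] at hE
      apply hi
      have : Subsingleton Γ(X, ι ⁻¹ᵁ chart N k i) := by
        have h5 : ι ⁻¹ᵁ chart N k i = ⊥ := by
          ext x
          exact ⟨fun hx => (hE.false ⟨x, hx⟩).elim, fun hx => hx.elim⟩
        rw [h5]
        infer_instance
      rw [mem_nonZeroDivisors_iff]
      exact ⟨fun x _ => Subsingleton.elim _ _, fun x _ => Subsingleton.elim _ _⟩
    have hi0 : le ι i H = 0 := by
      by_contra h0
      exact hi (mem_nonZeroDivisors_of_ne_zero h0)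
    have h5 : ∀ j, le ι j H = 0 := by
      intro j
      by_cases hj : Nonempty (ι ⁻¹ᵁ chart N k j)
      · have h6 := ores_le ι j i H
        rw [hi0, map_zero, mul_zero] at h6
        have h7 : Nonempty (ι ⁻¹ᵁ chart N k j ⊓ ι ⁻¹ᵁ chart N k i : X.Opens) := by
          obtain ⟨x, hx⟩ := (PreirreducibleSpace.isPreirreducible_univ (X := X)) _ _ (ι ⁻¹ᵁ chart N k j).2
            (ι ⁻¹ᵁ chart N k i).2 ⟨hj.some.1, trivial, hj.some.2⟩ ⟨hne.some.1, trivial, hne.some.2⟩
          exact ⟨⟨x, hx.2⟩⟩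
        exact (map_eq_zero_iff _ (map_injective_of_isIntegral X
          (homOfLE (inf_le_left : ι ⁻¹ᵁ chart N k j ⊓ ι ⁻¹ᵁ chart N k i ≤ ι ⁻¹ᵁ chart N k j)))).1 h6
      · have h6 : ι ⁻¹ᵁ chart N k j = ⊥ := by
          ext x
          exact ⟨fun hx => (hj ⟨⟨x, hx⟩⟩).elim, fun hx => hx.elim⟩
        have : Subsingleton Γ(X, ι ⁻¹ᵁ chart N k j) := by
          rw [h6]
          infer_instance
        exact Subsingleton.elim _ _
    have h6 : (hypIdeal H).comap ι = ⊥ := by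
      refine Scheme.IdealSheafData.ext_of_iSup_eq_top (fun j => ⟨ι ⁻¹ᵁ chart N k j, aff ι j⟩)
        (Groth.Agent.Lefpen.H708.Geo.iSup_preimage_chart ι) fun j => ?_
      rw [comap_ideal, h5 j, Ideal.span_singleton_zero]
      rfl
    rw [h6] at h3
    have h7 : SmoothOfRelativeDimension n (ι ≫ CohB1.ProjSpace.toSpec N k) := by
      have h9 : SmoothOfRelativeDimension (0 + n) (inv (⊥ : X.IdealSheafData).subschemeι ≫
          (⊥ : X.IdealSheafData).subschemeι ≫ ι ≫ CohB1.ProjSpace.toSpec N k) :=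
        smoothOfRelativeDimension_comp _ _ _ _
      rwa [zero_add, IsIso.inv_hom_id_assoc] at h9
    have h8 := Ega2.GeoRelDim.relDim_unique (ι ≫ CohB1.ProjSpace.toSpec N k) n (n + 1) h7 inferInstance hne.some.1
    omega
  exact nonempty_iso ι H h4

end K934.HypIso
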