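import Groth.Agent.Lefpen.H170.LinAut
import Groth.Agent.Lefpen.H702.AffAlg
import Groth.Agent.Lefpen.H702.Dict
import Groth.Agent.Lefpen.H718.Jac

/-!
# Forms invariant under a finite linear group generate the first order jets at the points with trivial stabiliser

* `dd P a w`: the derivative of `P` at `a` in the direction `w`; `dd_sub`: chain rule for linear substitutions.
* `inv τ d`: the forms of degree `d` invariant under the linear group `τ : G → GL(k^(r+1))`.
* `exists_inv`: prescribed value and first order part at a vector with trivial stabiliser (up to scalars).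
* `exists_jet`: the chart form.
-/

set_option autoImplicit false
universe u

open MvPolynomial

namespace K934.InvJets

open LefPen Groth.Agent Groth.Agent.Lefpen Groth.Agent.Lefpen.H170 Groth.Agent.Lefpen.H170.LinAut

variable {r : ℕ} {k : Type u} [Field k]

/-- The derivative of `P` at `a` in the direction `w`. -/
noncomputable def dd (P : MvPolynomial (Fin (r + 1)) k) (a w : Fin (r + 1) → k) : k :=
  ∑ i, w i * eval a (pderiv i P)

theorem dd_add (P Q : MvPolynomial (Fin (r + 1)) k) (a w : Fin (r + 1) → k) :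
    dd (P + Q) a w = dd P a w + dd Q a w := by
  simp [dd, mul_add, Finset.sum_add_distrib]

theorem dd_sum {ι : Type*} (s : Finset ι) (P : ι → MvPolynomial (Fin (r + 1)) k) (a w : Fin (r + 1) → k) :
    dd (∑ i ∈ s, P i) a w = ∑ i ∈ s, dd (P i) a w := by
  simp only [dd, map_sum, Finset.mul_sum]
  rw [Finset.sum_comm]

theorem dd_mul (P Q : MvPolynomial (Fin (r + 1)) k) (a w : Fin (r + 1) → k) :
    dd (P * Q) a w = eval a P * dd Q a w + eval a Q * dd P a w := by
  simp only [dd, Derivation.leibniz, smul_eq_mul, map_add, map_mul, Finset.mul_sum, ← Finset.sum_add_distrib]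
  refine Finset.sum_congr rfl fun i _ => ?_
  ring

theorem dd_C (c : k) (a w : Fin (r + 1) → k) : dd (C c) a w = 0 := by simp [dd]

theorem dd_X (i : Fin (r + 1)) (a w : Fin (r + 1) → k) : dd (X i) a w = w i := by
  classical
  simp only [dd, pderiv_X]
  rw [Finset.sum_eq_single i]
  · simp
  · intro j _ hj
    rw [Pi.single_eq_of_ne hj.symm]
    simp
  · simp

theorem dd_single (P : MvPolynomial (Fin (r + 1)) k) (a : Fin (r + 1) → k) (i : Fin (r + 1)) :
    dd P a (Pi.single i 1) = eval a (pderiv i P) := by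
  classical
  rw [dd, Finset.sum_eq_single i]
  · simp
  · intro j _ hj
    simp [hj]
  · simp

/-- The chain rule. -/
theorem dd_sub (L : (Fin (r + 1) → k) →ₗ[k] (Fin (r + 1) → k)) (P : MvPolynomial (Fin (r + 1)) k)
    (a w : Fin (r + 1) → k) : dd (sub L P) a w = dd P (L a) (L w) := by
  classical
  induction P using MvPolynomial.induction_on with
  | C c => rw [dd_C, ← MvPolynomial.algebraMap_eq, (sub L).commutes, MvPolynomial.algebraMap_eq, dd_C]
  | add p q hp hq => rw [map_add, dd_add, dd_add, hp, hq]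
  | mul_X p i hp =>
    rw [map_mul, dd_mul, dd_mul, hp, LinAut.eval_sub, LinAut.eval_sub, dd_X, sub_X, dd_sum]
    congr 2
    simp only [dd_mul, eval_C, dd_X, dd_C, mul_zero, add_zero]
    conv_rhs => rw [LinearMap.pi_apply_eq_sum_univ L w, Finset.sum_apply]
    refine Finset.sum_congr rfl fun l _ => ?_
    rw [Pi.smul_apply, smul_eq_mul, mul_comm]
    have h3 : (Pi.single l 1 : Fin (r + 1) → k) = fun j => if l = j then 1 else 0 := by
      funext m
      simp [Pi.single_apply, eq_comm]
    rw [h3]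

/-- A linear form. -/
noncomputable def lin (m : Fin (r + 1) → k) : MvPolynomial (Fin (r + 1)) k := ∑ i, C (m i) * X i

theorem lin_isHomogeneous (m : Fin (r + 1) → k) : (lin m).IsHomogeneous 1 :=
  MvPolynomial.IsHomogeneous.sum _ _ _ fun l _ => by
    simpa using (MvPolynomial.isHomogeneous_C (Fin (r + 1)) (m l)).mul (MvPolynomial.isHomogeneous_X k l)

theorem eval_lin (m a : Fin (r + 1) → k) : eval a (lin m) = ∑ i, m i * a i := by simp [lin]

theorem dd_lin (m a w : Fin (r + 1) → k) : dd (lin m) a w = ∑ i, m i * w i := by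
  simp [lin, dd_sum, dd_mul, dd_X, dd_C]

theorem dd_sq (P : MvPolynomial (Fin (r + 1)) k) (a w : Fin (r + 1) → k) (h : eval a P = 0) :
    dd (P ^ 2) a w = 0 := by rw [pow_two, dd_mul, h]; ring

theorem dd_mul_of_zero (P Q : MvPolynomial (Fin (r + 1)) k) (a w : Fin (r + 1) → k) (h : eval a P = 0)
    (h' : dd P a w = 0) : dd (P * Q) a w = 0 := by rw [dd_mul, h, h']; ring

/-- A linear form separating two vectors. -/
theorem exists_lin (a b : Fin (r + 1) → k) (h : ∀ c : k, a ≠ c • b) :
    ∃ m : Fin (r + 1) → k, (∑ i, m i * a i = 1) ∧ ∑ i, m i * b i = 0 := by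
  classical
  have h1 : a ∉ Submodule.span k {b} := by
    rw [Submodule.mem_span_singleton]
    rintro ⟨c, hc⟩
    exact h c hc.symm
  obtain ⟨f, hf1, hf2⟩ := Submodule.exists_le_ker_of_notMem h1
  have hsum : ∀ v : Fin (r + 1) → k, f v = ∑ i, f (Pi.single i 1) * v i := by
    intro v
    conv_lhs => rw [pi_eq_sum_univ' v, map_sum]
    refine Finset.sum_congr rfl fun i _ => ?_
    rw [map_smul, smul_eq_mul, mul_comm]
  refine ⟨fun i => (f a)⁻¹ * f (Pi.single i 1), ?_, ?_⟩
  · simp only [mul_assoc, ← Finset.mul_sum, ← hsum]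
    exact inv_mul_cancel₀ hf1
  · simp only [mul_assoc, ← Finset.mul_sum, ← hsum]
    have : f b = 0 := hf2 (Submodule.mem_span_singleton_self b)
    rw [this, mul_zero]

section Inv

variable {G : Type*} [Group G] (τ : G →* ((Fin (r + 1) → k) ≃ₗ[k] (Fin (r + 1) → k)))

/-- The linear map underlying the action of an element. -/
abbrev tl (g : G) : (Fin (r + 1) → k) →ₗ[k] (Fin (r + 1) → k) :=
  ((τ g : (Fin (r + 1) → k) ≃ₗ[k] (Fin (r + 1) → k)) : (Fin (r + 1) → k) →ₗ[k] (Fin (r + 1) → k))

/-- The invariant forms of degree `d`. -/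
noncomputable def inv (d : ℕ) : Submodule k (Form r k d) where
  carrier := {F | ∀ g : G, sub (tl τ g) F.1 = F.1}
  add_mem' := fun {F F'} hF hF' g => by
    have h1 := hF g
    have h2 := hF' g
    change sub (tl τ g) (F.1 + F'.1) = F.1 + F'.1
    rw [map_add, h1, h2]
  zero_mem' := fun g => by
    change sub (tl τ g) 0 = 0
    exact map_zero _
  smul_mem' := fun c F hF g => by
    have h1 := hF g
    change sub (tl τ g) (c • F.1) = c • F.1
    rw [map_smul, h1]

theorem mem_inv {d : ℕ} {F : Form r k d} : F ∈ inv τ d ↔ ∀ g : G, sub (tl τ g) F.1 = F.1 := Iff.rfl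

theorem sub_tl_mul [Infinite k] (g h : G) (P : MvPolynomial (Fin (r + 1)) k) :
    sub (tl τ g) (sub (tl τ h) P) = sub (tl τ (h * g)) P := by
  refine MvPolynomial.funext fun v => ?_
  rw [LinAut.eval_sub, LinAut.eval_sub, LinAut.eval_sub]
  congr 2
  simp [tl, map_mul]

variable [Infinite k] [Fintype G]

/-- The sum over the group of the transforms of a polynomial. -/
noncomputable def tr (P : MvPolynomial (Fin (r + 1)) k) : MvPolynomial (Fin (r + 1)) k := ∑ g : G, sub (tl τ g) P

theorem sub_tr (P : MvPolynomial (Fin (r + 1)) k) (h : G) : sub (tl τ h) (tr τ P) = tr τ P := by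
  rw [tr, map_sum]
  simp only [sub_tl_mul]
  exact Fintype.sum_equiv (Equiv.mulRight h) _ _ fun g => rfl

omit [Infinite k] in
theorem tr_isHomogeneous {P : MvPolynomial (Fin (r + 1)) k} {d : ℕ} (hP : P.IsHomogeneous d) :
    (tr τ P).IsHomogeneous d :=
  MvPolynomial.IsHomogeneous.sum _ _ _ fun _ _ => sub_isHomogeneous _ hP

/-- Invariant forms with prescribed value and differential at a vector with trivial stabiliser. -/
theorem exists_inv (a : Fin (r + 1) → k) (j : Fin (r + 1)) (haj : a j = 1)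
    (hst : ∀ g : G, g ≠ 1 → ∀ c : k, τ g a ≠ c • a) (d : ℕ) (hd : 2 * Fintype.card G ≤ d + 1)
    (c₀ : k) (c : Fin (r + 1) → k) :
    ∃ F : Form r k d, F ∈ inv τ d ∧ eval a F.1 = c₀ ∧ ∀ i, i ≠ j → eval a (pderiv i F.1) = c i := by
  classical
  have hg0 : 0 < Fintype.card G := Fintype.card_pos
  have ha0 : a ≠ 0 := fun h => by rw [h] at haj; simp at haj
  -- the separating linear forms
  have hex : ∀ g : G, ∃ m : Fin (r + 1) → k, (∑ i, m i * a i = 1) ∧ (g ≠ 1 → ∑ i, m i * (τ g a) i = 0) := by
    intro g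
    by_cases hg : g = 1
    · refine ⟨Pi.single j 1, ?_, fun h => absurd hg h⟩
      rw [Finset.sum_eq_single j]
      · simp [haj]
      · intro i _ hi; simp [hi]
      · simp
    · obtain ⟨m, h1, h2⟩ := exists_lin a (τ g a) (fun c hc => by
        have hc0 : c ≠ 0 := by
          rintro rfl
          exact ha0 (by rw [hc, zero_smul])
        refine hst g hg c⁻¹ ?_
        conv_rhs => rw [hc]
        rw [smul_smul, inv_mul_cancel₀ hc0, one_smul])
      exact ⟨m, h1, fun _ => h2⟩
  choose m hm1 hm2 using hex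
  let H : MvPolynomial (Fin (r + 1)) k := ∏ g ∈ Finset.univ.erase (1 : G), (lin (m g)) ^ 2
  have hH : H.IsHomogeneous (2 * (Fintype.card G - 1)) := by
    have h1 := MvPolynomial.IsHomogeneous.prod (Finset.univ.erase (1 : G)) (fun g => (lin (m g)) ^ 2)
      (fun _ => 1 * 2) (fun g _ => (lin_isHomogeneous (m g)).pow 2)
    rw [Finset.sum_const, Finset.card_erase_of_mem (Finset.mem_univ _), Finset.card_univ, smul_eq_mul] at h1
    rw [mul_comm]
    simpa using h1
  have hHa : eval a H = 1 := by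
    simp only [H, map_prod, map_pow, eval_lin, hm1, one_pow, Finset.prod_const_one]
  obtain ⟨e, he⟩ : ∃ e, d = 2 * (Fintype.card G - 1) + (e + 1) := ⟨d - 2 * (Fintype.card G - 1) - 1, by omega⟩
  let Q : MvPolynomial (Fin (r + 1)) k := H * X j ^ e
  have hQa : eval a Q = 1 := by
    simp only [Q, map_mul, map_pow, hHa, eval_X, haj, one_pow, mul_one]
  let m' : Fin (r + 1) → k := fun i =>
    if i = j then c₀ - ∑ l ∈ Finset.univ.erase j, (c l - c₀ * dd Q a (Pi.single l 1)) * a l
    else c i - c₀ * dd Q a (Pi.single i 1)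
  have hm'a : ∑ i, m' i * a i = c₀ := by
    rw [← Finset.add_sum_erase _ _ (Finset.mem_univ j)]
    have h1 : ∑ x ∈ Finset.univ.erase j, m' x * a x =
        ∑ l ∈ Finset.univ.erase j, (c l - c₀ * dd Q a (Pi.single l 1)) * a l := by
      refine Finset.sum_congr rfl fun l hl => ?_
      simp only [m', if_neg (Finset.ne_of_mem_erase hl)]
    rw [h1]
    simp only [m', if_true, haj]
    ring
  let F₀ : MvPolynomial (Fin (r + 1)) k := Q * lin m'
  have hF₀ : F₀.IsHomogeneous d := by
    have h1 := (hH.mul ((MvPolynomial.isHomogeneous_X k j).pow e)).mul (lin_isHomogeneous m')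
    rw [he]
    convert h1 using 1
    omega
  have hF₀a : eval a F₀ = c₀ := by
    simp only [F₀, map_mul, hQa, eval_lin, hm'a, one_mul]
  have hF₀d : ∀ i, i ≠ j → dd F₀ a (Pi.single i 1) = c i := by
    intro i hi
    simp only [F₀]
    rw [dd_mul, hQa, eval_lin, hm'a, dd_lin]
    have h1 : ∑ l, m' l * (Pi.single i 1 : Fin (r + 1) → k) l = m' i := by
      rw [Finset.sum_eq_single i]
      · simp
      · intro l _ hl; simp [hl]
      · simp
    rw [h1]
    simp only [m', if_neg hi]
    ring
  have hfac : ∀ g : G, g ≠ 1 → ∃ R, F₀ = (lin (m g)) ^ 2 * R := by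
    intro g hg
    have h1 : g ∈ Finset.univ.erase (1 : G) := Finset.mem_erase.2 ⟨hg, Finset.mem_univ _⟩
    refine ⟨(∏ g ∈ (Finset.univ.erase (1 : G)).erase g, (lin (m g)) ^ 2) * X j ^ e * lin m', ?_⟩
    simp only [F₀, Q, H]
    rw [← Finset.mul_prod_erase _ _ h1]
    ring
  have hz : ∀ g : G, g ≠ 1 → ∀ w, eval (τ g a) F₀ = 0 ∧ dd F₀ (τ g a) w = 0 := by
    intro g hg w
    obtain ⟨R, hR⟩ := hfac g hg
    have h1 : eval (τ g a) (lin (m g)) = 0 := by rw [eval_lin]; exact hm2 g hg
    have h2 : eval (τ g a) ((lin (m g)) ^ 2) = 0 := by rw [map_pow, h1]; ring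
    exact ⟨by rw [hR, map_mul, h2, zero_mul], by rw [hR]; exact dd_mul_of_zero _ _ _ _ h2 (dd_sq _ _ _ h1)⟩
  have hone : (τ (1 : G)) a = a := by rw [map_one]; rfl
  refine ⟨⟨tr τ F₀, (MvPolynomial.mem_homogeneousSubmodule _ _).2 (tr_isHomogeneous τ hF₀)⟩,
    fun g => sub_tr τ F₀ g, ?_, ?_⟩
  · change eval a (tr τ F₀) = c₀
    rw [tr, map_sum, Finset.sum_eq_single (1 : G)]
    · rw [LinAut.eval_sub]
      change eval (τ (1 : G) a) F₀ = c₀
      rw [hone, hF₀a]
    · intro g _ hg
      rw [LinAut.eval_sub]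
      exact (hz g hg 0).1
    · simp
  · intro i hi
    change eval a (pderiv i (tr τ F₀)) = c i
    rw [← dd_single, tr, dd_sum, Finset.sum_eq_single (1 : G)]
    · rw [dd_sub]
      change dd F₀ (τ (1 : G) a) (τ (1 : G) (Pi.single i 1)) = c i
      rw [hone, map_one]
      exact hF₀d i hi
    · intro g _ hg
      rw [dd_sub]
      exact (hz g hg _).2
    · simp

/-- The dehomogenised invariant forms generate the functions modulo the square of the ideal of a point with
trivial stabiliser. -/
theorem exists_jet (v : Fin r → k) (j : Fin (r + 1))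
    (hst : ∀ g : G, g ≠ 1 → ∀ c : k, τ g (H702.Dict.homCoords j v) ≠ c • H702.Dict.homCoords j v)
    (d : ℕ) (hd : 2 * Fintype.card G ≤ d + 1) (p : MvPolynomial (Fin r) k) :
    ∃ F ∈ inv τ d, Sga5.ProjChart.dehom r k j F.1 - p ∈ H702.AffAlg.ptIdeal v ^ 2 := by
  classical
  obtain ⟨F, hF, h0, h1⟩ := exists_inv τ (H702.Dict.homCoords j v) j (H702.Dict.homCoords_self j v) hst d hd
    (eval v p) (j.insertNth (α := fun _ => k) 0 fun i => eval v (pderiv i p))
  refine ⟨F, hF, (H702.AffAlg.mem_ptIdeal_sq_iff _ _).2 ⟨?_, fun l => ?_⟩⟩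
  · rw [MvPolynomial.eval_sub, H702.Dict.eval_dehom, h0, sub_self]
  · rw [map_sub, MvPolynomial.eval_sub, H718.Jac.pderiv_dehom, H702.Dict.eval_dehom, h1 _ (Fin.succAbove_ne j l),
      Fin.insertNth_apply_succAbove, sub_self]

end Inv

end K934.InvJets
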