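import Groth.Agent.Lefpen.H703.ZOpen
import Groth.Agent.Lefpen.H702.PolyFun
import Mathlib.RingTheory.GradedAlgebra.Homogeneous.Ideal

/-!
# Having no common zero is a generic condition on tuples of forms
-/

set_option autoImplicit false
universe u

open MvPolynomial

namespace K934.NoZero

open LefPen Groth.Agent.Lefpen.H702.PolyFun
open Groth.Agent.Lefpen.H703.ZOpen (isPolyFun_det)

variable {r : ℕ} {k : Type u} [Field k] {d : ℕ} {V : Type u} [AddCommGroup V] [Module k V] (Φ : V →ₗ[k] Form r k d)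

/-- The ideal generated by two families of forms. -/
noncomputable def idl {s : ℕ} {κ : Type} (F : Fin s → MvPolynomial (Fin (r + 1)) k) (b : κ → MvPolynomial (Fin (r + 1)) k) :
    Ideal (MvPolynomial (Fin (r + 1)) k) :=
  Ideal.span (Set.range F ∪ Set.range b)

theorem mem_idl_iff {s : ℕ} {κ : Type} [Fintype κ] (F : Fin s → MvPolynomial (Fin (r + 1)) k)
    (b : κ → MvPolynomial (Fin (r + 1)) k) (x : MvPolynomial (Fin (r + 1)) k) :
    x ∈ idl F b ↔ ∃ (A : Fin s → MvPolynomial (Fin (r + 1)) k) (B : κ → MvPolynomial (Fin (r + 1)) k),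
      x = ∑ j, A j * F j + ∑ l, B l * b l := by
  rw [idl, Ideal.span_union, Submodule.mem_sup]
  constructor
  · rintro ⟨y, hy, z, hz, rfl⟩
    obtain ⟨A, rfl⟩ := (Ideal.mem_span_range_iff_exists_fun).1 hy
    obtain ⟨B, rfl⟩ := (Ideal.mem_span_range_iff_exists_fun).1 hz
    exact ⟨A, B, rfl⟩
  · rintro ⟨A, B, rfl⟩
    exact ⟨_, (Ideal.mem_span_range_iff_exists_fun).2 ⟨A, rfl⟩, _, (Ideal.mem_span_range_iff_exists_fun).2 ⟨B, rfl⟩, rfl⟩

theorem isHomogeneous_idl {s : ℕ} {κ : Type} (F : Fin s → MvPolynomial (Fin (r + 1)) k) (b : κ → MvPolynomial (Fin (r + 1)) k)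
    (hF : ∀ j, ∃ n, (F j).IsHomogeneous n) (hb : ∀ l, ∃ n, (b l).IsHomogeneous n) :
    (idl F b).IsHomogeneous (CohB1.polyGrading r k) := by
  refine Ideal.homogeneous_span _ _ ?_
  rintro x (⟨j, rfl⟩ | ⟨l, rfl⟩)
  · obtain ⟨n, hn⟩ := hF j
    exact ⟨n, (mem_homogeneousSubmodule _ _).2 hn⟩
  · obtain ⟨n, hn⟩ := hb l
    exact ⟨n, (mem_homogeneousSubmodule _ _).2 hn⟩

/-- The projection to the forms of degree `D`. -/
noncomputable def pr (D : ℕ) : MvPolynomial (Fin (r + 1)) k →ₗ[k] Form r k D where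
  toFun x := DirectSum.decompose (CohB1.polyGrading r k) x D
  map_add' x y := by rw [DirectSum.decompose_add]; rfl
  map_smul' c x := by rw [DirectSum.decompose_smul]; rfl

theorem pr_self {D : ℕ} (Q : Form r k D) : pr D Q.1 = Q := by
  apply Subtype.ext
  exact DirectSum.decompose_of_mem_same _ Q.2

theorem pr_mem {D : ℕ} {I : Ideal (MvPolynomial (Fin (r + 1)) k)} (hI : I.IsHomogeneous (CohB1.polyGrading r k))
    {x : MvPolynomial (Fin (r + 1)) k} (hx : x ∈ I) : (pr D x).1 ∈ I := hI D hx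

theorem finite_form (D : ℕ) : FiniteDimensional k (Form r k D) := by
  have h1 : {e : Fin (r + 1) →₀ ℕ | e.degree = D}.Finite := by
    have h2 : ((Finset.univ : Finset (Fin (r + 1))).finsuppAntidiag D : Set (Fin (r + 1) →₀ ℕ)).Finite :=
      Finset.finite_toSet _
    refine h2.subset fun e he ↦ ?_
    rw [Finset.mem_coe, Finset.mem_finsuppAntidiag]
    refine ⟨?_, by simp⟩
    rw [← he, Finsupp.degree_eq_sum]
  have h3 : Finite {e : Fin (r + 1) →₀ ℕ // e.degree = D} := h1.to_subtype
  exact Module.Finite.equiv (formCoords r k D).symm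

/-- The underlying polynomial of a member of a tuple. -/
noncomputable def emb {s : ℕ} (j : Fin s) :
    (Fin s → V) →ₗ[k] MvPolynomial (Fin (r + 1)) k :=
  (CohB1.polyGrading r k d).subtype ∘ₗ Φ ∘ₗ LinearMap.proj j

theorem isPolyFun_coord {s D : ℕ} (j : Fin s) (l : Module.Dual k (Form r k D))
    (A : MvPolynomial (Fin (r + 1)) k) : IsPolyFun k (fun F : Fin s → V => l (pr D (A * (Φ (F j)).1))) := by
  have h : (fun F : Fin s → V => l (pr D (A * (Φ (F j)).1))) =
      fun F => (l ∘ₗ pr D ∘ₗ (LinearMap.mulLeft k A) ∘ₗ emb Φ j) F := by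
    funext F
    simp only [LinearMap.comp_apply, LinearMap.mulLeft_apply]
    rfl
  rw [h]
  exact isPolyFun_dual _

/-- If the tuple `E` (with the fixed forms `b`) generates all forms of degree `D`, so does a general tuple. -/
theorem exists_polyFun {s : ℕ} {κ : Type} [Finite κ] {e : κ → ℕ} (b : ∀ l, Form r k (e l))
    (E : Fin s → V) (D : ℕ)
    (hD : ∀ Q : Form r k D, Q.1 ∈ idl (fun j => (Φ (E j)).1) (fun l => (b l).1)) :
    ∃ P : (Fin s → V) → k, IsPolyFun k P ∧ P E ≠ 0 ∧ ∀ F : Fin s → V, P F ≠ 0 →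
      ∀ Q : Form r k D, Q.1 ∈ idl (fun j => (Φ (F j)).1) (fun l => (b l).1) := by
  classical
  have := Fintype.ofFinite κ
  have hfd : FiniteDimensional k (Form r k D) := finite_form D
  let β := Module.finBasis k (Form r k D)
  choose A B hAB using fun α => (mem_idl_iff _ _ _).1 (hD (β α))
  let T : (Fin s → V) → Fin (Module.finrank k (Form r k D)) → MvPolynomial (Fin (r + 1)) k :=
    fun F α => ∑ j, A α j * (Φ (F j)).1 + ∑ l, B α l * (b l).1
  let M : (Fin s → V) → Matrix (Fin (Module.finrank k (Form r k D))) (Fin (Module.finrank k (Form r k D))) k :=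
    fun F => Matrix.of fun α γ => β.repr (pr D (T F α)) γ
  refine ⟨fun F => (M F).det, isPolyFun_det fun α γ => ?_, ?_, fun F hF Q => ?_⟩
  · have h1 : (fun F : Fin s → V => M F α γ) = fun F => (∑ j, (β.coord γ) (pr D (A α j * (Φ (F j)).1))) +
        (β.coord γ) (pr D (∑ l, B α l * (b l).1)) := by
      funext F
      simp only [M, T, Matrix.of_apply, map_add, Finsupp.add_apply, map_sum, Finsupp.coe_finsetSum, Finset.sum_apply,
        Module.Basis.coord_apply]
    rw [h1]
    exact IsPolyFun.add (IsPolyFun.sum _ fun j _ => isPolyFun_coord Φ j (β.coord γ) (A α j)) (isPolyFun_const _)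
  · have h1 : M E = 1 := by
      ext α γ
      have h2 : T E α = (β α).1 := (hAB α).symm
      simp only [M, Matrix.of_apply, h2, pr_self, Module.Basis.repr_self]
      rw [Matrix.one_apply, Finsupp.single_apply]
    change (M E).det ≠ 0
    rw [h1, Matrix.det_one]
    exact one_ne_zero
  · have hI := isHomogeneous_idl (fun j => (Φ (F j)).1) (fun l => (b l).1)
      (fun j => ⟨d, (mem_homogeneousSubmodule _ _).1 (Φ (F j)).2⟩) (fun l => ⟨e l, (mem_homogeneousSubmodule _ _).1 (b l).2⟩)
    have hT : ∀ α, (pr D (T F α)).1 ∈ idl (fun j => (Φ (F j)).1) (fun l => (b l).1) := fun α =>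
      pr_mem hI ((mem_idl_iff _ _ _).2 ⟨A α, B α, rfl⟩)
    -- the matrix is invertible, so the `pr (T F α)` generate
    have hu : IsUnit (M F).det := isUnit_iff_ne_zero.2 hF
    have h1 : ∀ α, β α = ∑ γ, ((M F)⁻¹ α γ) • pr D (T F γ) := by
      intro α
      apply β.repr.injective
      ext δ
      rw [map_sum]
      simp only [map_smul, Finsupp.coe_finsetSum, Finset.sum_apply, Finsupp.smul_apply, smul_eq_mul,
        Module.Basis.repr_self]
      have h2 : ∑ γ, (M F)⁻¹ α γ * (β.repr (pr D (T F γ))) δ = ((M F)⁻¹ * M F) α δ := by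
        rw [Matrix.mul_apply]
        rfl
      rw [h2, Matrix.nonsing_inv_mul _ hu, Matrix.one_apply, Finsupp.single_apply]
    have h3 : ∀ α, (β α).1 ∈ idl (fun j => (Φ (F j)).1) (fun l => (b l).1) := by
      intro α
      rw [h1 α]
      simp only [AddSubmonoidClass.coe_finsetSum, SetLike.val_smul]
      exact sum_mem fun γ _ => Submodule.smul_of_tower_mem _ _ (hT γ)
    rw [← β.sum_repr Q]
    simp only [AddSubmonoidClass.coe_finsetSum, SetLike.val_smul]
    exact sum_mem fun γ _ => Submodule.smul_of_tower_mem _ _ (h3 γ)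

end K934.NoZero
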