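import Groth.Agent.EssDim.K995.ProjPt
import Groth.Agent.Lift.K934.InvJets
import Groth.Agent.Lift.K934.NoZero
import Groth.Prelude.Def_SGA1
import Groth.Agent.Ega3B.ProjProper
import Mathlib.AlgebraicGeometry.AlgClosed.Basic
import Mathlib.AlgebraicGeometry.Morphisms.Immersion

/-!
# The action of a finite linear group on a complete intersection of invariant forms

* `autHom_trans`: `autHom` is compatible with composition.
* `act`, `ρ`: the action of `G` on `Y F = (ciIdeal F).subscheme` for invariant forms `F`.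
* `free`: the action is free on geometric points if the points with nontrivial stabiliser are common zeros of the forms
  `b`, which have no common zero with the `F`.
-/

set_option autoImplicit false
universe u

open CategoryTheory AlgebraicGeometry Limits

namespace K934.Act

open LefPen Groth.Agent Groth.Agent.Lefpen Groth.Agent.Lefpen.H170.LinAut K934.InvJets
open Groth.Agent.Lefpen.H720.HomPt Groth.Agent.Lefpen.H720.AffPt K995.ProjPt

variable {r : ℕ} {k : Type u} [Field k]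

theorem sub_comp [Infinite k] (L M : (Fin (r + 1) → k) →ₗ[k] (Fin (r + 1) → k))
    (P : MvPolynomial (Fin (r + 1)) k) : sub L (sub M P) = sub (M ∘ₗ L) P := by
  refine MvPolynomial.funext fun v => ?_
  rw [H170.LinAut.eval_sub, H170.LinAut.eval_sub, H170.LinAut.eval_sub]
  rfl

theorem autHom_trans [Infinite k] (L M : (Fin (r + 1) → k) ≃ₗ[k] (Fin (r + 1) → k)) :
    autHom L ≫ autHom M = autHom (L.trans M) := by
  have h1 := Proj.map_comp (grHom (M : (Fin (r + 1) → k) →ₗ[k] (Fin (r + 1) → k)))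
    (grHom (L : (Fin (r + 1) → k) →ₗ[k] (Fin (r + 1) → k)))
    (Groth.Agent.Sga5.ProjSurj.irrelevant_le_map (degSurj M))
    (Groth.Agent.Sga5.ProjSurj.irrelevant_le_map (degSurj L))
  have hc : ((L.trans M : (Fin (r + 1) → k) ≃ₗ[k] (Fin (r + 1) → k)) : (Fin (r + 1) → k) →ₗ[k] (Fin (r + 1) → k)) =
      (M : (Fin (r + 1) → k) →ₗ[k] (Fin (r + 1) → k)) ∘ₗ (L : (Fin (r + 1) → k) →ₗ[k] (Fin (r + 1) → k)) := rfl
  have h2 : (grHom (L : (Fin (r + 1) → k) →ₗ[k] (Fin (r + 1) → k))).comp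
      (grHom (M : (Fin (r + 1) → k) →ₗ[k] (Fin (r + 1) → k))) =
      grHom ((L.trans M : (Fin (r + 1) → k) ≃ₗ[k] (Fin (r + 1) → k)) : (Fin (r + 1) → k) →ₗ[k] (Fin (r + 1) → k)) := by
    rw [hc]
    apply GradedRingHom.ext
    intro P
    have h3 := sub_comp (L : (Fin (r + 1) → k) →ₗ[k] (Fin (r + 1) → k)) (M : (Fin (r + 1) → k) →ₗ[k] (Fin (r + 1) → k)) P
    rw [grHom_apply, ← h3]
    rfl
  exact h1.symm.trans (map_congr h2 _ _)

variable [Infinite k] {s d : ℕ} {G : Type u} [Group G] (τ : G →* ((Fin (r + 1) → k) ≃ₗ[k] (Fin (r + 1) → k)))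
  (F : Fin s → Form r k d)

/-- The complete intersection. -/
noncomputable abbrev Y : Scheme.{u} := (ciIdeal F).subscheme

/-- Its embedding. -/
noncomputable abbrev yι : Y F ⟶ CohB1.ProjSpace r k := (ciIdeal F).subschemeι

/-- Its structure morphism. -/
noncomputable abbrev yStr : Y F ⟶ Spec (CommRingCat.of k) := yι F ≫ CohB1.ProjSpace.toSpec r k

variable {F} (hF : ∀ i, F i ∈ inv τ d)

include hF in
theorem comap_ciIdeal (g : G) : (ciIdeal F).comap (autHom (τ g)) = ciIdeal F := by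
  rw [ciIdeal, (Scheme.IdealSheafData.map_gc (autHom (τ g))).l_iSup]
  refine iSup_congr fun i => ?_
  rw [comap_hypIdeal]
  congr 1
  exact Subtype.ext (hF i g)

include hF in
theorem ker_le (g : G) : (yι F).ker ≤ (yι F ≫ autHom (τ g)).ker := by
  rw [Scheme.IdealSheafData.ker_subschemeι]
  exact Scheme.IdealSheafData.le_map_iff_comap_le.2 (comap_ciIdeal τ hF g).le

/-- The action of an element. -/
noncomputable def act (g : G) : Y F ⟶ Y F := IsClosedImmersion.lift (yι F) (yι F ≫ autHom (τ g)) (ker_le τ hF g)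

@[reassoc]
theorem act_ι (g : G) : act τ hF g ≫ yι F = yι F ≫ autHom (τ g) := IsClosedImmersion.lift_fac _ _ _

theorem act_comp (g h : G) : act τ hF g ≫ act τ hF h = act τ hF (h * g) := by
  rw [← cancel_mono (yι F), Category.assoc, act_ι, act_ι_assoc, autHom_trans, act_ι, map_mul]
  rfl

theorem act_one : act τ hF 1 = 𝟙 _ := by
  rw [← cancel_mono (yι F), act_ι, map_one, Category.id_comp]
  have h1 := autHom_comp (1 : (Fin (r + 1) → k) ≃ₗ[k] (Fin (r + 1) → k)) 1 (by ext1 x; rfl)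
  have h2 : autHom (1 : (Fin (r + 1) → k) ≃ₗ[k] (Fin (r + 1) → k)) = 𝟙 _ := by
    have h3 := autHom_trans (1 : (Fin (r + 1) → k) ≃ₗ[k] (Fin (r + 1) → k)) (1 : (Fin (r + 1) → k) ≃ₗ[k] (Fin (r + 1) → k))
    have h4 : (1 : (Fin (r + 1) → k) ≃ₗ[k] (Fin (r + 1) → k)).trans (1 : (Fin (r + 1) → k) ≃ₗ[k] (Fin (r + 1) → k)) = 1 := rfl
    rw [h4] at h3
    rw [← h3]
    exact h1
  rw [h2, Category.comp_id]

/-- The action. -/
noncomputable def ρ : G →* Aut (Y F) where
  toFun g :=
    { hom := act τ hF g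
      inv := act τ hF g⁻¹
      hom_inv_id := by rw [act_comp, inv_mul_cancel, act_one]
      inv_hom_id := by rw [act_comp, mul_inv_cancel, act_one] }
  map_one' := by
    apply Iso.ext
    exact act_one τ hF
  map_mul' g h := by
    apply Iso.ext
    exact (act_comp τ hF h g).symm

@[reassoc]
theorem ρ_ι (g : G) : (ρ τ hF g).hom ≫ yι F = yι F ≫ autHom (τ g) := act_ι τ hF g

theorem ρ_str (g : G) : (ρ τ hF g).hom ≫ yStr F = yStr F := by
  rw [yStr, ρ_ι_assoc, autHom_toSpec]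

omit [Infinite k] in
/-- The coordinates of a rational point satisfy the equations. -/
theorem eval_eq_zero (η : Spec (CommRingCat.of k) ⟶ Y F) (j : Fin (r + 1)) (v : Fin (r + 1) → k) (hv : v j ≠ 0)
    (h : η ≫ yι F = hpt j v) (i : Fin s) : MvPolynomial.eval v (F i).1 = 0 := by
  have hle : hypIdeal (F i) ≤ ciIdeal F := le_iSup (fun i => hypIdeal (F i)) i
  have h1 := dehom_eq_zero (F i) j (aff j v) (η ≫ Scheme.IdealSheafData.inclusion hle) (by
    rw [Category.assoc, Scheme.IdealSheafData.inclusion_subschemeι]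
    exact h)
  exact (aeval_dehom_eq_zero_iff j v hv (F i)).1 h1

variable [IsAlgClosed k]

omit [Infinite k] in
theorem exists_rational {T : Scheme.{u}} [Nonempty T] (a : T ⟶ Spec (CommRingCat.of k)) [LocallyOfFiniteType a] :
    ∃ σ : Spec (CommRingCat.of k) ⟶ T, σ ≫ a = 𝟙 _ := by
  have : JacobsonSpace T := LocallyOfFiniteType.jacobsonSpace a
  obtain ⟨z, -, hz⟩ := nonempty_inter_closedPoints (Z := (Set.univ : Set T)) ⟨Classical.arbitrary T, trivial⟩
    isClosed_univ.isLocallyClosed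
  exact ⟨((pointEquivClosedPoint a).symm ⟨z, hz⟩).1, ((pointEquivClosedPoint a).symm ⟨z, hz⟩).2⟩

/-- The action is free on geometric points. -/
theorem free {κ : Type} {e : κ → ℕ} (b : ∀ l, Form r k (e l))
    (hfree : ∀ v : Fin (r + 1) → k, (∃ l, MvPolynomial.eval v (b l).1 ≠ 0) → ∀ g : G, g ≠ 1 → ∀ c : k, τ g v ≠ c • v)
    (D : ℕ) (hD : ∀ Q : Form r k D, Q.1 ∈ NoZero.idl (fun j => (F j).1) (fun l => (b l).1))
    (K : Type u) [Field K] (ξ : Spec (CommRingCat.of K) ⟶ Y F) (g : G) (hξ : ξ ≫ (ρ τ hF g).hom = ξ) : g = 1 := by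
  by_contra hg
  let E := equalizer (ρ τ hF g).hom (𝟙 (Y F))
  let ε : E ⟶ Y F := equalizer.ι _ _
  have hE : Nonempty E := by
    let ζ : Spec (CommRingCat.of K) ⟶ E := equalizer.lift ξ (by rw [hξ, Category.comp_id])
    exact ⟨ζ (IsLocalRing.closedPoint K)⟩
  have hε : LocallyOfFiniteType ε := by
    have h0 : IsImmersion ε := inferInstanceAs (IsImmersion (equalizer.ι _ _))
    rw [← Scheme.Hom.liftCoborder_ι ε]
    infer_instance
  have hP : LocallyOfFiniteType (CohB1.ProjSpace.toSpec r k) :=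
    (Groth.Agent.Ega3B.ProjProper.isProper_toSpec r k).toLocallyOfFiniteType
  have : LocallyOfFiniteType (ε ≫ yStr F) := inferInstance
  obtain ⟨σ, hσ⟩ := exists_rational (ε ≫ yStr F)
  have h1 : (σ ≫ ε) ≫ (ρ τ hF g).hom = σ ≫ ε := by
    rw [Category.assoc, equalizer.condition, Category.comp_id]
  obtain ⟨j, v, hv, hσv⟩ := exists_eq_hpt ((σ ≫ ε) ≫ yι F) (by simpa only [Category.assoc] using hσ)
  have hv0 : v ≠ 0 := fun h => hv (by rw [h]; rfl)
  have hMv : (τ g) v ≠ 0 := fun h => hv0 ((τ g).map_eq_zero_iff.1 h)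
  obtain ⟨i, hi⟩ : ∃ i, (τ g) v i ≠ 0 := by
    by_contra hcon
    push Not at hcon
    exact hMv (funext hcon)
  have h2 : hpt j v = hpt i ((τ g) v) := by
    have h6 := ρ_ι τ hF g
    have h7 : (σ ≫ ε) ≫ yι F = ((σ ≫ ε) ≫ yι F) ≫ autHom (τ g) := by
      rw [Category.assoc (σ ≫ ε), ← h6, ← Category.assoc, h1]
    rw [← hpt_autHom (τ g) hv hi, ← hσv]
    exact h7
  obtain ⟨c, -, hc⟩ := exists_smul_of_hpt_eq hv hi h2
  refine hfree v ?_ g hg c hc
  by_contra hcon
  push Not at hcon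
  have h3 := hD ⟨MvPolynomial.X j ^ D, (MvPolynomial.mem_homogeneousSubmodule _ _).2
    (by simpa using (MvPolynomial.isHomogeneous_X k j).pow D)⟩
  have h4 : NoZero.idl (fun j => (F j).1) (fun l => (b l).1) ≤ RingHom.ker (MvPolynomial.eval v) := by
    rw [NoZero.idl, Ideal.span_le]
    rintro _ (⟨i, rfl⟩ | ⟨l, rfl⟩)
    · exact eval_eq_zero (σ ≫ ε) j v hv hσv i
    · exact hcon l
  have h5 := h4 h3
  rw [RingHom.mem_ker, map_pow, MvPolynomial.eval_X] at h5
  exact hv (eq_zero_of_pow_eq_zero h5)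

end K934.Act
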