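import Groth.Agent.Lift.K934.Outer
import Groth.Agent.Lift.K934.HypIso
import Groth.Agent.Surf.K461.SerreDual
import Groth.Agent.Sga2lef.H24.ToPn
import Groth.Agent.Fga.IntAdd
import Groth.Agent.Fga.MultInt
import Groth.Agent.HodgeNum.K882.IsoMon
import Groth.Agent.CurvesC.DualDeg
import Groth.Agent.VarietyA.CurveFin
import Groth.Agent.Sga4B.RelCurveFibre
import Groth.Agent.ProjDual.K271.PnSubDepth

/-!
# Cutting a smooth projective variety by a smooth divisor with prescribed Euler characteristic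
-/

set_option autoImplicit false
universe u

open CategoryTheory CategoryTheory.Limits AlgebraicGeometry Opposite

namespace K934.Cut

open Groth.Agent Outer

variable {k : Type u} [Field k] [IsAlgClosed k] {m : ℕ}

theorem step (X : Scheme.{u}) [X.Over (Spec (CommRingCat.of k))] {n : ℕ} (hn : 1 ≤ n) (hX : IsVar k (n + 1) X)
    (L : X.Modules) (hL : RelAmple.IsRelVeryAmplePn (X ↘ Spec (CommRingCat.of k)) L) (e : ℤ)
    (hM : ∀ M : X.Modules, ClSub.IsInverseOf M L →
      ((FGA.eulerCharLE k X M (n + 1) : ℤ) : ZMod m) = (e : ZMod m) ∧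
      ∀ (I : X.IdealSheafData) [I.subscheme.Over (Spec (CommRingCat.of k))],
        I.subscheme ↘ Spec (CommRingCat.of k) = I.subschemeι ≫ X ↘ Spec (CommRingCat.of k) → Nonempty (ClSub.idealMod I ≅ M) →
        SmoothOfRelativeDimension n (I.subscheme ↘ Spec (CommRingCat.of k)) →
        ∀ p q : ℕ, p + q + 1 ≤ n →
          ∀ F : I.subscheme.Modules, ExtPow.IsExtPow p (Omega.sheaf (I.subscheme ↘ Spec (CommRingCat.of k))) F →
          ∀ E' : X.Modules, ExtPow.IsExtPow p (Omega.sheaf (X ↘ Spec (CommRingCat.of k))) E' →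
            Module.finrank k (Coh.HH I.subscheme F q) = Module.finrank k (Coh.HH X E' q))
    {P Q : PowerSeries (ZMod m)} (hN : Nums k m X P Q) :
    ∃ P' Q', Rz k m n P' Q' ∧
      (∀ i, i < n → PowerSeries.coeff i P' = PowerSeries.coeff i P ∧ PowerSeries.coeff i Q' = PowerSeries.coeff i Q) ∧
      PowerSeries.coeff n P' = PowerSeries.coeff n Q' ∧
      (∑ i ∈ Finset.range (n + 2), (-1 : ZMod m) ^ i * PowerSeries.coeff i Q) =
        e + ∑ i ∈ Finset.range (n + 1), (-1 : ZMod m) ^ i * PowerSeries.coeff i Q' := by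
  have hint := hX.int
  have hsm := hX.smooth
  have hprop := isProper hX
  have hsm' : Smooth (X ↘ Spec (CommRingCat.of k)) := SmoothOfRelativeDimension.smooth (n + 1) _
  obtain ⟨N, ι, hι, hf, ⟨eL⟩⟩ := Sga2lef.H24.ToPn.exists_closedImmersion (X ↘ Spec (CommRingCat.of k)) L hL
  have hsmι : SmoothOfRelativeDimension (n + 1) (ι ≫ CohB1.ProjSpace.toSpec N k) := by rw [hf]; exact hsm
  obtain ⟨I, hI1, ⟨hI2⟩⟩ := HypIso.exists_hyperplane ι n
  have hinv : ClSub.IsInverseOf (ClSub.idealMod I) L := by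
    have h1 := K271.PnSubDepth.isInverseOf_pull k ι
    rw [K882.IsoMon.isInverseOf_iff] at h1 ⊢
    rw [K882.IsoMon.c_iso hI2, K882.IsoMon.c_iso eL, mul_comm]
    exact h1
  obtain ⟨hχ, hnum⟩ := hM _ hinv
  let hO : I.subscheme.Over (Spec (CommRingCat.of k)) := ⟨I.subschemeι ≫ (X ↘ Spec (CommRingCat.of k))⟩
  have hsmY : SmoothOfRelativeDimension n (I.subscheme ↘ Spec (CommRingCat.of k)) := by
    change SmoothOfRelativeDimension n (I.subschemeι ≫ (X ↘ Spec (CommRingCat.of k)))
    rw [← hf]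
    exact hI1
  have hsmY' : Smooth (I.subscheme ↘ Spec (CommRingCat.of k)) := SmoothOfRelativeDimension.smooth n _
  have hY := hnum I rfl ⟨Iso.refl _⟩ hsmY
  have hOY := Sga67.TensorOps.isExtPow_zero (Omega.sheaf (I.subscheme ↘ Spec (CommRingCat.of k)))
  have hOX := Sga67.TensorOps.isExtPow_zero (Omega.sheaf (X ↘ Spec (CommRingCat.of k)))
  have h0 : Module.finrank k (Coh.HH I.subscheme (Coh.structureModule I.subscheme) 0) = 1 := by
    rw [hY 0 0 (by omega) _ hOY _ hOX]
    exact VarietyA.CurveFin.finrank_h0_structure k X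
  have hconn : ConnectedSpace I.subscheme := K898.HZeroOne.connectedSpace_of_finrank k _ h0
  have hintY : IsIntegral I.subscheme := K486.CompTop.isIntegral_of_connected (I.subscheme ↘ Spec (CommRingCat.of k))
  have hvY : IsVar k n I.subscheme := ⟨hintY, hsmY, N, I.subschemeι ≫ ι, inferInstance, by
    rw [Category.assoc, hf]
    rfl⟩
  have hpropY := isProper hvY
  obtain ⟨P', Q', hN'⟩ := exists_nums m hvY
  have hqY := isQCoh_omega (I.subscheme ↘ Spec (CommRingCat.of k))
  have hqX := isQCoh_omega (X ↘ Spec (CommRingCat.of k))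
  refine ⟨P', Q', ⟨_, hO, hvY, hN'⟩, fun i hi => ⟨?_, ?_⟩, ?_, ?_⟩
  · obtain ⟨E, hE⟩ := Dual.H366.ExtQCoh.exists_isExtPow i hqY
    obtain ⟨E', hE'⟩ := Dual.H366.ExtQCoh.exists_isExtPow i hqX
    rw [← hN'.left i E hE, ← hN.left i E' hE', hY i 0 (by omega) E hE E' hE']
  · rw [← hN'.right i, ← hN.right i, hY 0 i (by omega) _ hOY _ hOX]
  · obtain ⟨W, hW⟩ := Dual.H366.ExtQCoh.exists_isExtPow n hqY
    rw [← hN'.left n W hW, ← hN'.right n]
    congr 1
    have e1 : Nonempty (CohB1.tensorMod (Coh.structureModule I.subscheme) (Coh.structureModule I.subscheme) ≅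
        Coh.structureModule I.subscheme) := by
      rw [← K882.IsoMon.c_eq_iff, K882.IsoMon.c_tensor, K882.IsoMon.c_unit, mul_one]
    have e2 : Nonempty (CohB1.tensorMod W (Coh.structureModule I.subscheme) ≅ W) := by
      rw [← K882.IsoMon.c_eq_iff, K882.IsoMon.c_tensor, K882.IsoMon.c_unit, mul_one]
    have h1 := K461.SerreDual.finrank_eq k n hW e1 (Fdesc.StructMod.isQCoh_structureModule _) 0 n (by omega)
    have h2 := K882.Coho.hd_iso (k := k) e2 0
    unfold K882.Coho.hd at h2
    rw [h1, h2]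
  · have hdX : topologicalKrullDim X = ((n + 1 : ℕ) : WithBot ℕ∞) :=
      Sga4B.RelCurveFibre.topologicalKrullDim_eq (X ↘ Spec (CommRingCat.of k)) (n + 1)
    have hdY : topologicalKrullDim I.subscheme = (n : WithBot ℕ∞) :=
      Sga4B.RelCurveFibre.topologicalKrullDim_eq (I.subscheme ↘ Spec (CommRingCat.of k)) n
    have hLN : IsLocallyNoetherian X := LocallyOfFiniteType.isLocallyNoetherian (X ↘ Spec (CommRingCat.of k))
    have a1 := Fga.IntAdd.isAdd_euler k X (n + 1) hdX.le _ (CurvesC.DualDeg.shortExact_ideal I)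
      (CurvesC.DualDeg.isCoh_idealMod I) (CurvesB.UnitCoh.isCoh_structureModule X) (CurvesC.DualDeg.isCoh_quotMod I)
    have a2 : FGA.eulerCharLE k X (ClSub.quotMod I) (n + 1) =
        FGA.eulerCharLE k I.subscheme (Coh.structureModule I.subscheme) (n + 1) :=
      Fga.MultInt.euler_push k I.subschemeι rfl _ _
    have a3 : FGA.eulerCharLE k I.subscheme (Coh.structureModule I.subscheme) (n + 1) =
        FGA.eulerCharLE k I.subscheme (Coh.structureModule I.subscheme) n := by
      rw [Fga.IntAdd.eulerCharLE_eq k I.subscheme n hdY.le, Fga.IntAdd.eulerCharLE_eq k I.subscheme (n + 1)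
        (hdY.le.trans (by exact_mod_cast Nat.le_succ n))]
    have a4 : FGA.eulerCharLE k X (Coh.structureModule X) (n + 1) =
        FGA.eulerCharLE k X (ClSub.idealMod I) (n + 1) +
          FGA.eulerCharLE k I.subscheme (Coh.structureModule I.subscheme) n := by
      rw [← a3, ← a2]
      exact a1
    have a5 := congrArg (fun z : ℤ => (z : ZMod m)) a4
    simp only [Int.cast_add, hχ] at a5
    unfold FGA.eulerCharLE at a5
    push_cast at a5
    simp only [hN.right, hN'.right] at a5
    exact a5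

end K934.Cut
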