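import Groth.Agent.Sga1.FreeQuot
import Mathlib.RingTheory.Invariant.Basic
import Mathlib.GroupTheory.SpecificGroups.Cyclic

/-!
# The trace of a free action of a finite group; additive Hilbert 90 for cyclic groups
-/

set_option autoImplicit false

open scoped TensorProduct

namespace K934.CycTr

open Groth.Agent.Sga1

section

variable {A B G : Type*} [CommRing A] [CommRing B] [Algebra A B] [Group G] [MulSemiringAction G B]
  [SMulCommClass G A B]

/-- The trace of a free action is surjective. -/
theorem exists_trace_one [Fintype G] [Algebra.IsInvariant A B G] (hinj : Function.Injective (algebraMap A B))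
    (h : ∀ g : G, g ≠ 1 → ∀ M : Ideal B, M.IsMaximal → ∃ b, g • b - b ∉ M) :
    ∃ x : B, ∑ g : G, g • x = 1 := by
  classical
  obtain ⟨e, he⟩ := FreeQuot.exists_isSep A h
  obtain ⟨S, hS⟩ := TensorProduct.exists_finset e
  rw [hS] at he
  have h1 := FreeQuot.sum_mul_tr hinj S he 1
  let I : Ideal A := LinearMap.range (FreeQuot.tr A G hinj)
  have hI : I = ⊤ := by
    by_contra hne
    obtain ⟨𝔪, h𝔪, hle⟩ := Ideal.exists_le_maximal I hne
    have : Algebra.IsIntegral A B := Algebra.IsInvariant.isIntegral A B G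
    obtain ⟨Q, hQ, hQ'⟩ := Ideal.exists_ideal_over_maximal_of_isIntegral (S := B) 𝔪 (by
      rw [(RingHom.injective_iff_ker_eq_bot _).1 hinj]
      exact bot_le)
    refine hQ.ne_top ((Ideal.eq_top_iff_one _).2 ?_)
    rw [← h1]
    refine sum_mem fun i _ => ?_
    rw [Algebra.smul_def]
    refine Ideal.mul_mem_right _ _ ?_
    have h2 : FreeQuot.tr A G hinj (i.2 * 1) ∈ 𝔪 := hle ⟨_, rfl⟩
    rw [← hQ'] at h2
    exact h2
  have h2 : (1 : A) ∈ I := by rw [hI]; trivial
  obtain ⟨x, hx⟩ := h2
  refine ⟨x, ?_⟩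
  rw [← FreeQuot.algebraMap_tr A hinj x, hx, map_one]

end

/-- Additive Hilbert 90 for a cyclic group whose trace takes the value one. -/
theorem hilbert90 {B G : Type*} [CommRing B] [Group G] [MulSemiringAction G B] (σ : G) (n : ℕ) (hσ : σ ^ n = 1)
    (x : B) (hx : ∑ i ∈ Finset.range n, σ ^ i • x = 1) (a : B) (ha : ∑ i ∈ Finset.range n, σ ^ i • a = 0) :
    ∃ b : B, σ • b - b = a := by
  let s : ℕ → B := fun i => ∑ j ∈ Finset.range i, σ ^ j • a
  have hs : ∀ i, σ • s i = s (i + 1) - a := by
    intro i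
    simp only [s]
    rw [Finset.sum_range_succ', Finset.smul_sum, pow_zero, one_smul, add_sub_cancel_right]
    refine Finset.sum_congr rfl fun j _ => ?_
    rw [smul_smul, ← pow_succ']
  have hs0 : s 0 = 0 := by simp [s]
  have hsn : s n = 0 := ha
  let f : ℕ → B := fun i => s i * σ ^ i • x
  have h1 : σ • (∑ i ∈ Finset.range n, f i) = ∑ i ∈ Finset.range n, f (i + 1) - a * ∑ i ∈ Finset.range n, σ ^ (i + 1) • x := by
    rw [Finset.smul_sum, Finset.mul_sum, ← Finset.sum_sub_distrib]
    refine Finset.sum_congr rfl fun i _ => ?_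
    simp only [f]
    rw [smul_mul', hs, smul_smul, ← pow_succ', sub_mul]
  have h2 : ∑ i ∈ Finset.range n, f (i + 1) = ∑ i ∈ Finset.range n, f i := by
    have h3 := Finset.sum_range_succ f n
    have h4 := Finset.sum_range_succ' f n
    have h5 : f n = 0 := by simp only [f]; rw [hsn, zero_mul]
    have h6 : f 0 = 0 := by simp only [f]; rw [hs0, zero_mul]
    rw [h5, add_zero] at h3
    rw [h6, add_zero] at h4
    rw [← h4, h3]
  have h3 : ∑ i ∈ Finset.range n, σ ^ (i + 1) • x = 1 := by
    have h4 := Finset.sum_range_succ (fun i => σ ^ i • x) n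
    have h5 := Finset.sum_range_succ' (fun i => σ ^ i • x) n
    rw [h4, hσ, hx] at h5
    simp only [pow_zero] at h5
    exact (add_right_cancel h5).symm
  refine ⟨-∑ i ∈ Finset.range n, f i, ?_⟩
  rw [smul_neg, h1, h2, h3]
  ring

/-- Sums over a cyclic group. -/
theorem sum_eq_sum_range {G M : Type*} [Group G] [Fintype G] [AddCommMonoid M] (σ : G) (hσ : ∀ g : G, g ∈ Subgroup.zpowers σ)
    (f : G → M) : ∑ g : G, f g = ∑ i ∈ Finset.range (Fintype.card G), f (σ ^ i) := by
  classical
  have h1 : orderOf σ = Fintype.card G := orderOf_eq_card_of_forall_mem_zpowers hσ |>.trans Nat.card_eq_fintype_card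
  rw [← Finset.sum_image (s := Finset.range (Fintype.card G)) (g := fun i => σ ^ i) (f := f)]
  · congr 1
    symm
    rw [Finset.eq_univ_iff_forall]
    intro g
    have h2 : g ∈ Submonoid.powers σ := by
      have := hσ g
      rwa [← mem_powers_iff_mem_zpowers] at this
    rw [← h1]
    exact (mem_powers_iff_mem_range_orderOf.1 h2)
  · intro i hi j hj hij
    rw [← h1] at hi hj
    exact pow_injOn_Iio_orderOf (by simpa using hi) (by simpa using hj) hij

end K934.CycTr
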