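import Groth.Agent.Lift.K934.ZpAct
import Mathlib.LinearAlgebra.Dimension.Finite
import Mathlib.LinearAlgebra.FiniteDimensional.Basic

/-!
# The action of an elementary abelian group on `k^{2m}` by `m` Jordan blocks of size two
-/

set_option autoImplicit false
universe u

open MvPolynomial

namespace K934.ElAct

open LefPen Groth.Agent Groth.Agent.Lefpen Groth.Agent.Lefpen.H170 Groth.Agent.Lefpen.H170.LinAut K934.InvJets
open K934.ZpAct (N N_inl N_inr T T_apply T_add T_zero b)

/-- An infinite field of characteristic `p` contains elementary abelian groups of any rank. -/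
theorem exists_embedding (k : Type u) [Field k] [Infinite k] (p : ℕ) [Fact p.Prime] [CharP k p] (s : ℕ) :
    ∃ h : (Fin s → ZMod p) →+ k, Function.Injective h := by
  let _ : Algebra (ZMod p) k := (ZMod.castHom (dvd_refl p) k).toAlgebra
  have hinf : ¬ FiniteDimensional (ZMod p) k := by
    intro hf
    have : Finite k := Module.finite_of_finite (ZMod p)
    exact not_finite k
  have h1 : Cardinal.aleph0 ≤ Module.rank (ZMod p) k := by
    by_contra hcon
    push Not at hcon
    exact hinf (Module.rank_lt_aleph0_iff.1 hcon)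
  obtain ⟨v, hv⟩ := exists_linearIndependent_of_le_rank (R := ZMod p) (M := k) (n := s)
    ((Cardinal.natCast_lt_aleph0 (n := s)).le.trans h1)
  refine ⟨(Fintype.linearCombination (ZMod p) v).toAddMonoidHom, ?_⟩
  exact linearIndependent_iff_injective_fintypeLinearCombination.1 hv

variable {k : Type u} [Field k] {m r : ℕ} (e : Fin m ⊕ Fin m ≃ Fin (r + 1))
  {G : Type u} [Group G] (sc : G → k) (hmul : ∀ g h, sc (g * h) = sc g + sc h)

/-- The action. -/
def τ : G →* ((Fin (r + 1) → k) ≃ₗ[k] (Fin (r + 1) → k)) where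
  toFun g := T e (sc g)
  map_one' := by
    have h1 : sc 1 = 0 := by
      have := hmul 1 1
      rw [mul_one] at this
      exact add_eq_left.1 this.symm
    rw [h1, T_zero]
  map_mul' g h := by rw [hmul, T_add]

theorem τ_apply (g : G) (v : Fin (r + 1) → k) : τ e sc hmul g v = v + sc g • N e v := rfl

theorem free (hinj : ∀ g, sc g = 0 → g = 1) (v : Fin (r + 1) → k) (hv : ∃ l, eval v (b e l : Form r k 1).1 ≠ 0)
    (g : G) (hg : g ≠ 1) (c : k) : τ e sc hmul g v ≠ c • v := by
  obtain ⟨l, hl⟩ := hv
  have hl' : v (e (Sum.inr l)) ≠ 0 := by simpa [b] using hl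
  intro h
  have h1 := congrFun h (e (Sum.inr l))
  have h2 := congrFun h (e (Sum.inl l))
  simp only [τ_apply, Pi.add_apply, Pi.smul_apply, N_inl, N_inr, smul_eq_mul, mul_zero, add_zero] at h1 h2
  have hc : c = 1 := by
    have : (c - 1) * v (e (Sum.inr l)) = 0 := by rw [sub_mul, ← h1]; ring
    rcases mul_eq_zero.1 this with h | h
    · exact sub_eq_zero.1 h
    · exact absurd h hl'
  rw [hc, one_mul, add_eq_left] at h2
  rcases mul_eq_zero.1 h2 with h | h
  · exact hg (hinj g h)
  · exact hl' h

variable [Fintype G]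

/-- The norm of the other coordinates. -/
noncomputable def E (j : Fin m) : Form r k (2 * Fintype.card G) :=
  ⟨(∏ g : G, (X (e (Sum.inl j)) + C (sc g) * X (e (Sum.inr j)))) ^ 2, by
    have h1 : (∏ g : G, ((X (e (Sum.inl j)) : MvPolynomial (Fin (r + 1)) k) +
        C (sc g) * X (e (Sum.inr j)))).IsHomogeneous (∑ _g : G, 1) :=
      IsHomogeneous.prod _ _ _ fun g _ => (isHomogeneous_X k _).add (by
        simpa using (isHomogeneous_C (Fin (r + 1)) (sc g)).mul (isHomogeneous_X k (e (Sum.inr j))))
    have h2 := h1.pow 2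
    have h3 : (∑ _g : G, 1) * 2 = 2 * Fintype.card G := by
      rw [Finset.sum_const, Finset.card_univ, smul_eq_mul, mul_one, mul_comm]
    rw [h3] at h2
    exact (mem_homogeneousSubmodule _ _).2 h2⟩

theorem E_mem [Infinite k] (j : Fin m) : E e sc j ∈ inv (τ e sc hmul) (2 * Fintype.card G) := by
  intro g
  refine MvPolynomial.funext fun v => ?_
  rw [LinAut.eval_sub]
  change eval (τ e sc hmul g v) _ = _
  simp only [E, map_pow, map_prod, map_add, map_mul, eval_X, eval_C, τ_apply, Pi.add_apply, Pi.smul_apply, N_inl, N_inr,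
    smul_eq_mul, mul_zero, add_zero]
  congr 1
  refine Fintype.prod_equiv (Equiv.mulLeft g) _ _ fun h => ?_
  rw [Equiv.coe_mulLeft, hmul]
  ring

omit [Group G] in
theorem mem_idl (Q : Form r k (m * (2 * Fintype.card G) + 1)) :
    Q.1 ∈ NoZero.idl (fun j => (E e sc j).1) (fun l => (b e l : Form r k 1).1) := by
  classical
  set I := NoZero.idl (fun j => (E e sc j).1) (fun l => (b e l : Form r k 1).1) with hI
  have hb : ∀ l, (X (e (Sum.inr l)) : MvPolynomial (Fin (r + 1)) k) ∈ I := fun l =>
    Ideal.subset_span (Or.inr ⟨l, rfl⟩)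
  have hE : ∀ j, (E e sc j).1 ∈ I := fun j => Ideal.subset_span (Or.inl ⟨j, rfl⟩)
  have hX : ∀ j, (X (e (Sum.inl j)) : MvPolynomial (Fin (r + 1)) k) ^ (2 * Fintype.card G) ∈ I := by
    intro j
    have h1 := hE j
    rw [← Ideal.Quotient.eq_zero_iff_mem] at h1 ⊢
    rw [E, map_pow, map_prod] at h1
    have h2 : ∀ g : G, Ideal.Quotient.mk I ((X (e (Sum.inl j)) : MvPolynomial (Fin (r + 1)) k) +
        C (sc g) * X (e (Sum.inr j))) = Ideal.Quotient.mk I (X (e (Sum.inl j))) := fun g => by
      rw [map_add, map_mul, Ideal.Quotient.eq_zero_iff_mem.2 (hb j), mul_zero, add_zero]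
    simp only [h2] at h1
    rw [Finset.prod_const, Finset.card_univ, ← pow_mul] at h1
    rw [map_pow, mul_comm]
    exact h1
  have hmon : ∀ d : Fin (r + 1) →₀ ℕ, d.degree = m * (2 * Fintype.card G) + 1 → ∀ c : k, monomial d c ∈ I := by
    intro d hd c
    by_cases h : ∃ l, d (e (Sum.inr l)) ≠ 0
    · obtain ⟨l, hl⟩ := h
      have h1 : monomial d c = monomial (d - Finsupp.single (e (Sum.inr l)) 1) c * X (e (Sum.inr l)) := by
        rw [X, monomial_mul, mul_one, tsub_add_cancel_of_le]
        rw [Finsupp.single_le_iff]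
        omega
      rw [h1]
      exact I.mul_mem_left _ (hb l)
    · push Not at h
      obtain ⟨j, hj⟩ : ∃ j, 2 * Fintype.card G ≤ d (e (Sum.inl j)) := by
        by_contra hcon
        push Not at hcon
        have h1 : d.degree = ∑ i, d i := Finsupp.degree_eq_sum d
        rw [← Equiv.sum_comp e, Fintype.sum_sum_type] at h1
        simp only [h, Finset.sum_const_zero, add_zero] at h1
        have h2 : ∑ j, d (e (Sum.inl j)) ≤ ∑ _j : Fin m, 2 * Fintype.card G := Finset.sum_le_sum fun j _ => (hcon j).le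
        rw [Finset.sum_const, Finset.card_univ, Fintype.card_fin, smul_eq_mul] at h2
        omega
      have h1 : monomial d c = monomial (d - Finsupp.single (e (Sum.inl j)) (2 * Fintype.card G)) c *
          X (e (Sum.inl j)) ^ (2 * Fintype.card G) := by
        rw [X_pow_eq_monomial, monomial_mul, mul_one, tsub_add_cancel_of_le]
        rwa [Finsupp.single_le_iff]
      rw [h1]
      exact I.mul_mem_left _ (hX j)
  rw [Q.1.as_sum]
  refine Ideal.sum_mem _ fun d hd => hmon d ?_ _
  have h := (mem_homogeneousSubmodule _ _).1 Q.2 (mem_support_iff.1 hd)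
  rw [← h]
  exact DFunLike.congr_fun Finsupp.degree_eq_weight_one d

end K934.ElAct
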