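import Groth.Agent.Lift.K934.TorsSeq
import Groth.Agent.VarietyB.HHPush
import Groth.Agent.FormalB.HHLes
import Groth.Agent.Fdesc.StructMod

/-!
# Cohomology of the structure sheaf of a free cyclic quotient
-/

set_option autoImplicit false
universe u

open CategoryTheory CategoryTheory.Limits AlgebraicGeometry Opposite

namespace K934.HCoh

open Groth.Agent Groth.Agent.Sga1 FormalA.HHLin FormalB.HHLes

section Abs

variable (k : Type u) [Field k] {Z : Scheme.{u}} [Z.Over (Spec (CommRingCat.of k))]

theorem app_injective_of_mono {M N : Z.Modules} (φ : M ⟶ N) [Mono φ] (U : Z.Opens) :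
    Function.Injective (φ.app U) := by
  have h1 : Mono ((Scheme.Modules.toPresheaf Z).map φ) := inferInstance
  have h2 : Mono (((Scheme.Modules.toPresheaf Z).map φ).app (op U)) := inferInstance
  exact (AddCommGrpCat.mono_iff_injective _).1 h2

theorem injective_zero {M N : Z.Modules} (φ : M ⟶ N) [Mono φ] : Function.Injective (HHmap k φ 0) := by
  intro x y h
  apply (CurvesB.HZero.equivAdd M).injective
  apply app_injective_of_mono φ ⊤
  rw [← CurvesB.HZero.equivAdd_map, ← CurvesB.HZero.equivAdd_map]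
  exact congrArg _ h

theorem finrank_of_bij {V W : Type u} [AddCommGroup V] [Module k V] [AddCommGroup W] [Module k W]
    (f : V →ₗ[k] W) (h1 : Function.Injective f) (h2 : Function.Surjective f) :
    Module.finrank k V = Module.finrank k W :=
  (LinearEquiv.ofBijective f ⟨h1, h2⟩).finrank_eq

theorem surj_of_exact {V W T : Type u} [AddCommGroup V] [Module k V] [AddCommGroup W] [Module k W]
    [AddCommGroup T] [Module k T] (f : V →ₗ[k] W) (g : W →ₗ[k] T) (h : Function.Exact f g)
    (hT : Subsingleton T) : Function.Surjective f := fun y => (h y).1 (Subsingleton.elim _ _)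

theorem inj_of_exact {V W T : Type u} [AddCommGroup V] [Module k V] [AddCommGroup W] [Module k W]
    [AddCommGroup T] [Module k T] (f : V →ₗ[k] W) (g : W →ₗ[k] T) (h : Function.Exact f g)
    (hf : ∀ x, f x = 0) : Function.Injective g := by
  rw [injective_iff_map_eq_zero]
  intro y hy
  obtain ⟨x, rfl⟩ := (h y).1 hy
  exact hf x

theorem main {O P F : Z.Modules} {u : O ⟶ P} {π : P ⟶ F} {w₁ : u ≫ π = 0}
    (h₁ : (ShortComplex.mk u π w₁).ShortExact) {j : F ⟶ P} {t : P ⟶ O} {w₂ : j ≫ t = 0}
    (h₂ : (ShortComplex.mk j t w₂).ShortExact) (d : ℕ)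
    (h0P : Module.finrank k (Coh.HH Z P 0) = 1)
    (hP : ∀ i, 0 < i → i < d → Subsingleton (Coh.HH Z P i))
    (hu : Function.Surjective (HHmap k u 0)) (ht : ∀ x, HHmap k t 0 x = 0) (i : ℕ) (hi : i < d) :
    Module.finrank k (Coh.HH Z O i) = 1 ∧ Module.finrank k (Coh.HH Z F i) = 1 := by
  induction i with
  | zero =>
    have : Mono u := h₁.mono_f
    have : Mono j := h₂.mono_f
    refine ⟨?_, ?_⟩
    · rw [← h0P]
      exact finrank_of_bij k _ (injective_zero k u) hu
    · rw [← h0P]
      refine finrank_of_bij k (HHmap k j 0) (injective_zero k j) fun y => ?_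
      exact (exact_map_map k h₂ 0 y).1 (ht y)
  | succ i ih =>
    obtain ⟨ihO, ihF⟩ := ih (by omega)
    have hs := hP (i + 1) (by omega) hi
    refine ⟨?_, ?_⟩
    · refine Eq.trans (Eq.symm ?_) ihF
      refine finrank_of_bij k (δ k h₁ i) ?_ ?_
      · refine inj_of_exact k _ _ (exact_map_δ k h₁ i) ?_
        intro x
        cases i with
        | zero =>
          obtain ⟨y, rfl⟩ := hu x
          exact (exact_map_map k h₁ 0 _).2 ⟨y, rfl⟩
        | succ i =>
          have := hP (i + 1) (by omega) (by omega)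
          rw [Subsingleton.elim x 0]
          exact map_zero _
      · exact surj_of_exact k _ _ (exact_δ_map k h₁ i) hs
    · refine Eq.trans (Eq.symm ?_) ihO
      refine finrank_of_bij k (δ k h₂ i) ?_ ?_
      · refine inj_of_exact k _ _ (exact_map_δ k h₂ i) ?_
        intro x
        cases i with
        | zero => exact ht x
        | succ i =>
          have := hP (i + 1) (by omega) (by omega)
          rw [Subsingleton.elim x 0]
          exact map_zero _
      · exact surj_of_exact k _ _ (exact_δ_map k h₂ i) hs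

end Abs

section Quot

variable (k : Type u) [Field k] {Y Z : Scheme.{u}} [Y.Over (Spec (CommRingCat.of k))] {G : Type u} [Group G] {ρ : G →* Aut Y} {p : Y ⟶ Z}
  (hp : SGA1.IsQuot ρ p) (σ : G) (hσ : ∀ g : G, g ∈ Subgroup.zpowers σ) [Fintype G]
  (hfree : FreeQuotSch.IsFree ρ) (hG : (Fintype.card G : k) = 0)

theorem alg_card {H R : Type*} [Group H] [Fintype H] [CommRing R] [MulSemiringAction H R] (a : R)
    (ha : ∀ g : H, g • a = a) (hH : (Fintype.card H : R) = 0) : ∑ g : H, g • a = 0 := by
  simp only [ha]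
  rw [Finset.sum_const, Finset.card_univ, nsmul_eq_mul, hH, zero_mul]

include hG in
theorem unit_t : ClSub.unitToPush p ≫ TorsSeq.t hp σ hσ = 0 := by
  have := TorsSeq.mono_unit hp
  rw [← cancel_mono (ClSub.unitToPush p), Category.assoc, TorsSeq.t_unit, zero_comp]
  refine FormalB.SysSect.hom_eq_zero_of_affine _ fun U _ a => ?_
  let _ := QuotAct.act ρ p hp.inv U
  change (TorsSeq.trP hp).app U ((p.app U).hom a) = 0
  refine (TorsSeq.trP_app hp U _).trans ?_
  refine alg_card (R := Γ(Y, p ⁻¹ᵁ U)) _ (fun g => QuotAct.smul_app hp.inv U g a) ?_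
  let φ : k →+* Γ(Y, p ⁻¹ᵁ U) := (Y.presheaf.map (homOfLE le_top).op).hom.comp (CurvesB.HZero.gl k Y)
  rw [← map_natCast φ, hG, map_zero]

variable [Z.Over (Spec (CommRingCat.of k))]
  (hpk : p ≫ (Z ↘ Spec (CommRingCat.of k)) = Y ↘ Spec (CommRingCat.of k))

include hpk in
theorem surj_unit (h0 : Module.finrank k (Coh.HH Y (Coh.structureModule Y) 0) = 1) :
    Function.Surjective (HHmap k (ClSub.unitToPush p) 0) := by
  intro x
  obtain ⟨c, hc⟩ := CurvesB.HZero.exists_const k h0 (CurvesB.HZero.equivAdd (TorsSeq.P p) x)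
  refine ⟨(CurvesB.HZero.equivAdd (Coh.structureModule Z)).symm (CurvesB.HZero.gl k Z c), ?_⟩
  apply (CurvesB.HZero.equivAdd (TorsSeq.P p)).injective
  refine (CurvesB.HZero.equivAdd_map (ClSub.unitToPush p) _).trans ?_
  refine (congrArg ((ClSub.unitToPush p).app ⊤) (AddEquiv.apply_symm_apply _ _)).trans ?_
  refine Eq.trans ?_ hc
  exact VarietyB.HHPush.appTop_gl p k hpk c

include hpk hp hσ hfree hG in
theorem finrank_O (d : ℕ) (h0 : Module.finrank k (Coh.HH Y (Coh.structureModule Y) 0) = 1)
    (hY : ∀ i, 0 < i → i < d → Subsingleton (Coh.HH Y (Coh.structureModule Y) i)) (i : ℕ) (hi : i < d) :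
    Module.finrank k (Coh.HH Z (Coh.structureModule Z) i) = 1 := by
  have := hp.affine
  have hO := Fdesc.StructMod.isQCoh_structureModule (X := Y)
  refine (main k (TorsSeq.ses₁ hp) (TorsSeq.ses₂ hp σ hσ hfree) d ?_ ?_ (surj_unit k hpk h0) ?_ i hi).1
  · rw [← h0]
    exact VarietyB.HHPush.finrank_HH_push p k hpk _ hO 0
  · intro i h1 h2
    obtain ⟨e⟩ := VarietyB.HHPush.exists_linearEquiv p k hpk _ hO i
    have := hY i h1 h2
    exact e.toEquiv.subsingleton
  · intro x
    obtain ⟨y, rfl⟩ := surj_unit k hpk h0 x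
    rw [HHmap_comp_apply, unit_t k hp σ hσ hG, HHmap_zero]
    rfl

end Quot

end K934.HCoh
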