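import Groth.Agent.Lefpen.H708.BertiniAlg
import Groth.Agent.Lefpen.H702.PolyFun
import Groth.Agent.Lefpen.H702.LocAlg
import Groth.Agent.Variety.K658.JetCore
import Groth.Agent.Lefpen.H879.Lat

/-!
# Iterated general members of a linear system generating the first order jets

* `JetGen w`: the linear map `w : V → B` generates `B / 𝔪²` for all maximal ideals `𝔪`.
* `isGeneric_good`: the general member cuts a smooth affine algebra in a smooth one of dimension one less.
* `exists_iter`: `r` successive general members, on finitely many algebras, with a polynomial condition.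
-/

set_option autoImplicit false
universe u

open KaehlerDifferential

namespace K934.GenIter

open LefPen Groth.Agent.Lefpen.H708.BertiniAlg Groth.Agent.Lefpen.H702.PolyFun

variable {k : Type u} [Field k] {V : Type u} [AddCommGroup V] [Module k V]

/-- The linear system `w` generates the functions modulo the square of every maximal ideal. -/
def JetGen {B : Type u} [CommRing B] [Algebra k B] (w : V →ₗ[k] B) : Prop :=
  ∀ (𝔪 : Ideal B), 𝔪.IsMaximal → ∀ l : B, ∃ F : V, w F - l ∈ 𝔪 ^ 2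

theorem JetGen.quot {B : Type u} [CommRing B] [Algebra k B] {w : V →ₗ[k] B} (h : JetGen w) (I : Ideal B) :
    JetGen ((Ideal.Quotient.mkₐ k I).toLinearMap ∘ₗ w) := by
  intro 𝔪 h𝔪 l
  obtain ⟨l, rfl⟩ := Ideal.Quotient.mk_surjective l
  have h1 : (𝔪.comap (Ideal.Quotient.mk I)).IsMaximal := Ideal.comap_isMaximal_of_surjective _ Ideal.Quotient.mk_surjective
  obtain ⟨F, hF⟩ := h _ h1 l
  refine ⟨F, ?_⟩
  have h2 := Ideal.mem_map_of_mem (Ideal.Quotient.mk I) hF
  rw [map_sub, Ideal.map_pow] at h2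
  exact Ideal.pow_right_mono Ideal.map_comap_le 2 h2

/-- The case of a principal localisation. -/
theorem JetGen.away [IsAlgClosed k] {A : Type u} [CommRing A] [Algebra k A] [Algebra.FiniteType k A] (g : A) (w : V →ₗ[k] A)
    (h : ∀ (𝔪 : Ideal A), 𝔪.IsMaximal → g ∉ 𝔪 → ∀ l : A, ∃ F : V, w F - l ∈ 𝔪 ^ 2)
    (E : Type u) [CommRing E] [Algebra k E] [Algebra A E] [IsScalarTower k A E] [IsLocalization.Away g E] :
    JetGen ((IsScalarTower.toAlgHom k A E).toLinearMap ∘ₗ w) := by
  intro 𝔫 h𝔫 l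
  have hJ : IsJacobsonRing A := isJacobsonRing_of_finiteType (A := k)
  obtain ⟨h𝔪, hg𝔪⟩ := (IsLocalization.isMaximal_iff_isMaximal_disjoint (S := E) g 𝔫).1 h𝔫
  let 𝔪 : Ideal A := 𝔫.under A
  obtain ⟨⟨a, s⟩, hl⟩ := IsLocalization.surj (Submonoid.powers g) l
  have hs : (s : A) ∉ 𝔪 := by
    obtain ⟨m, hm⟩ := s.2
    intro hs
    rw [← show g ^ m = (s : A) from hm] at hs
    exact hg𝔪 (h𝔪.isPrime.mem_of_pow_mem m hs)
  have hcop : Ideal.span {(s : A)} ⊔ 𝔪 ^ 2 = ⊤ := by
    have h1 : Ideal.span {(s : A)} ⊔ 𝔪 = ⊤ := by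
      refine h𝔪.out.2 _ (lt_of_le_of_ne le_sup_right fun h => hs ?_)
      have h5 : (s : A) ∈ Ideal.span {(s : A)} ⊔ 𝔪 := Ideal.mem_sup_left (Ideal.mem_span_singleton_self _)
      exact h.ge h5
    exact Ideal.sup_pow_eq_top h1
  have h1 : (1 : A) ∈ Ideal.span {(s : A)} ⊔ 𝔪 ^ 2 := by rw [hcop]; trivial
  obtain ⟨y, hy, z, hz, hyz⟩ := Submodule.mem_sup.1 h1
  obtain ⟨h', rfl⟩ := Ideal.mem_span_singleton'.1 hy
  obtain ⟨F, hF⟩ := h 𝔪 h𝔪 hg𝔪 (a * h')
  refine ⟨F, ?_⟩
  have hmap : ∀ t ∈ 𝔪 ^ 2, algebraMap A E t ∈ 𝔫 ^ 2 := by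
    intro t ht
    have h2 : (𝔪 ^ 2).map (algebraMap A E) ≤ 𝔫 ^ 2 := by
      rw [Ideal.map_pow]
      exact Ideal.pow_right_mono (Ideal.map_le_iff_le_comap.2 le_rfl) 2
    exact h2 (Ideal.mem_map_of_mem _ ht)
  have h2 : algebraMap A E (w F) - l =
      algebraMap A E (w F - a * h') - l * algebraMap A E z := by
    have h3 : algebraMap A E (a * h') = l - l * algebraMap A E z := by
      rw [map_mul, ← hl, mul_assoc, ← map_mul, show (s : A) * h' = 1 - z by rw [← hyz]; ring, map_sub, map_one]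
      ring
    rw [map_sub, h3]
    ring
  change algebraMap A E (w F) - l ∈ 𝔫 ^ 2
  rw [h2]
  exact sub_mem (hmap _ hF) (Ideal.mul_mem_left _ _ (hmap _ hz))

/-- Values and differentials generate. -/
theorem JetGen.span_eq_top [IsAlgClosed k] {B : Type u} [CommRing B] [Algebra k B] [Algebra.FiniteType k B]
    {w : V →ₗ[k] B} (h : JetGen w) :
    Submodule.span B (Set.range fun F : V => (w F, D k B (w F))) = ⊤ := by
  have hfin : Module.Finite B Ω[B⁄k] := inferInstance
  refine K658.JetCore.eq_top_of_sup _ fun 𝔪 h𝔪 => ?_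
  set N := Submodule.span B (Set.range fun F : V => (w F, D k B (w F))) with hN
  have hres : ∀ z : B, ∃ c : k, z - algebraMap k B c ∈ 𝔪 := fun z => K658.JetCore.exists_sub_mem 𝔪 h𝔪 z
  -- the jets of all functions
  have hsm : ∀ (t : B) (x : B × Ω[B⁄k]), t ∈ 𝔪 → t • x ∈ 𝔪 • (⊤ : Submodule B (B × Ω[B⁄k])) :=
    fun t x ht => Submodule.smul_mem_smul ht trivial
  have hsq : ∀ z ∈ 𝔪 ^ 2, ((z, D k B z) : B × Ω[B⁄k]) ∈ 𝔪 • (⊤ : Submodule B (B × Ω[B⁄k])) := by
    intro z hz
    rw [pow_two] at hz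
    refine Submodule.mul_induction_on hz (fun a ha c hc => ?_) (fun a c ha hc => ?_)
    · have h1 : ((a * c, D k B (a * c)) : B × Ω[B⁄k]) = a • ((c, D k B c) : B × Ω[B⁄k]) + c • ((0, D k B a) : B × Ω[B⁄k]) := by
        rw [Derivation.leibniz]
        simp [Prod.smul_mk]
      rw [h1]
      exact add_mem (hsm _ _ ha) (hsm _ _ hc)
    · rw [map_add]
      have h1 : ((a + c, D k B a + D k B c) : B × Ω[B⁄k]) = (a, D k B a) + (c, D k B c) := rfl
      rw [h1]
      exact add_mem ha hc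
  have hall : ∀ z : B, ((z, D k B z) : B × Ω[B⁄k]) ∈ N ⊔ 𝔪 • (⊤ : Submodule B (B × Ω[B⁄k])) := by
    intro z
    obtain ⟨F, hF⟩ := h 𝔪 h𝔪 z
    have h1 := hsq _ hF
    have h2 : ((z, D k B z) : B × Ω[B⁄k]) = (w F, D k B (w F)) - (w F - z, D k B (w F - z)) := by
      rw [map_sub]
      ext <;> simp
    rw [h2]
    exact sub_mem (Submodule.mem_sup_left (Submodule.subset_span ⟨F, rfl⟩)) (Submodule.mem_sup_right h1)
  have h10 : ((1, 0) : B × Ω[B⁄k]) ∈ N ⊔ 𝔪 • (⊤ : Submodule B (B × Ω[B⁄k])) := by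
    have := hall 1
    rwa [Derivation.map_one_eq_zero] at this
  have h01 : ∀ ω : Ω[B⁄k], ((0, ω) : B × Ω[B⁄k]) ∈ N ⊔ 𝔪 • (⊤ : Submodule B (B × Ω[B⁄k])) := by
    intro ω
    have h1 : ω ∈ Submodule.span B (Set.range (D k B)) := by
      rw [KaehlerDifferential.span_range_derivation]; trivial
    induction h1 using Submodule.span_induction with
    | mem x hx =>
      obtain ⟨y, rfl⟩ := hx
      have h2 : ((0, D k B y) : B × Ω[B⁄k]) = (y, D k B y) - y • ((1, 0) : B × Ω[B⁄k]) := by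
        ext <;> simp
      rw [h2]
      exact sub_mem (hall y) (Submodule.smul_mem _ _ h10)
    | zero => exact zero_mem _
    | add x y _ _ hx hy =>
      have h2 : ((0, x + y) : B × Ω[B⁄k]) = (0, x) + (0, y) := by ext <;> simp
      rw [h2]
      exact add_mem hx hy
    | smul a x _ hx =>
      have h2 : ((0, a • x) : B × Ω[B⁄k]) = a • ((0, x) : B × Ω[B⁄k]) := by ext <;> simp
      rw [h2]
      exact Submodule.smul_mem _ _ hx
  rw [_root_.eq_top_iff]
  rintro ⟨b, ω⟩ _
  have h2 : ((b, ω) : B × Ω[B⁄k]) = b • ((1, 0) : B × Ω[B⁄k]) + (0, ω) := by ext <;> simp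
  rw [h2]
  exact add_mem (Submodule.smul_mem _ _ h10) (h01 ω)

/-- The general member of a jet-generating system is smooth of dimension one less. -/
theorem isGeneric_good [IsAlgClosed k] [FiniteDimensional k V] {B : Type u} [CommRing B] [Algebra k B]
    [Algebra.FiniteType k B] (n : ℕ)
    (hB : RingHom.Locally (RingHom.IsStandardSmoothOfRelativeDimension n) (algebraMap k B))
    {w : V →ₗ[k] B} (h : JetGen w) :
    IsGeneric k {F : V | Good k n (algebraMap k (B ⧸ Ideal.span {w F}))} := by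
  classical
  let b := Module.finBasis k V
  have hrep : ∀ F : V, w F = ∑ α, b.equivFun F α • w (b α) := by
    intro F
    conv_lhs => rw [← b.sum_equivFun F]
    rw [map_sum]
    simp only [map_smul]
  have hspan : Submodule.span B (Set.range fun α => (w (b α), D k B (w (b α)))) = ⊤ := by
    rw [_root_.eq_top_iff, ← h.span_eq_top, Submodule.span_le]
    rintro _ ⟨F, rfl⟩
    have h1 : ((w F, D k B (w F)) : B × Ω[B⁄k]) =
        ∑ α, algebraMap k B (b.equivFun F α) • ((w (b α), D k B (w (b α))) : B × Ω[B⁄k]) := by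
      conv_lhs => rw [hrep F]
      rw [map_sum]
      ext
      · simp [Prod.fst_sum, Algebra.smul_def]
      · simp [Prod.snd_sum]
    change ((w F, D k B (w F)) : B × Ω[B⁄k]) ∈ _
    rw [h1]
    exact sum_mem fun α _ => Submodule.smul_mem _ _ (Submodule.subset_span ⟨α, rfl⟩)
  obtain ⟨f, hf0, hf⟩ := chart_generic k B n hB (fun α => w (b α)) hspan
  refine isGeneric_of_mvPolynomial b.equivFun hf0 fun F hF => ?_
  have h4 := hf (b.equivFun F) (by rwa [MvPolynomial.aeval_eq_eval] at hF)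
  rwa [← hrep F] at h4

/-- A property of a tuple of vectors: the successive quotients are smooth. -/
theorem exists_iter [IsAlgClosed k] [FiniteDimensional k V] {ι : Type} [Finite ι] (r : ℕ) : ∀ (n : ℕ) (_ : r ≤ n)
    (B : ι → Type u) [∀ a, CommRing (B a)] [∀ a, Algebra k (B a)] [∀ a, Algebra.FiniteType k (B a)]
    (_ : ∀ a, RingHom.Locally (RingHom.IsStandardSmoothOfRelativeDimension n) (algebraMap k (B a)))
    (w : ∀ a, V →ₗ[k] B a) (_ : ∀ a, JetGen (w a))
    (P : (Fin r → V) → k) (_ : IsPolyFun k P) (_ : ∃ v, P v ≠ 0),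
    ∃ F : Fin r → V, P F ≠ 0 ∧ ∀ a, RingHom.Locally (RingHom.IsStandardSmoothOfRelativeDimension (n - r))
      (algebraMap k (B a ⧸ Ideal.span (Set.range fun j => w a (F j)))) := by
  induction r with
  | zero =>
    intro n _ B _ _ _ hB w _ P _ hP0
    obtain ⟨v, hv⟩ := hP0
    refine ⟨v, hv, fun a => ?_⟩
    have h1 : Ideal.span (Set.range fun j : Fin 0 => w a (v j)) = ⊥ := by
      rw [Set.range_eq_empty, Ideal.span_empty]
    rw [h1]
    have hRI := RingHom.isStandardSmoothOfRelativeDimension_respectsIso (n := n)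
    have h2 := (RingHom.locally_respectsIso hRI).1 _ (RingEquiv.quotientBot (B a)).symm (hB a)
    exact h2
  | succ r ih =>
    intro n hn B _ _ _ hB w hw P hP hP0
    obtain ⟨v, hv⟩ := hP0
    have hcons : v = Fin.cons (v 0) (Fin.tail v) := (Fin.cons_self_tail v).symm
    have hg1 : IsGeneric k {F : V | P (Fin.cons F (Fin.tail v)) ≠ 0} :=
      ⟨_, Groth.Agent.Lefpen.H879.Lat.isPolyFun_cons_left hP (Fin.tail v), ⟨v 0, by
        change P (Fin.cons (v 0) (Fin.tail v)) ≠ 0
        rwa [← hcons]⟩, fun _ h => h⟩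
    have hg2 : ∀ a, IsGeneric k {F : V | Good k n (algebraMap k (B a ⧸ Ideal.span {w a F}))} :=
      fun a => isGeneric_good n (hB a) (hw a)
    obtain ⟨F₀, hF₀⟩ := IsGeneric.nonempty (IsGeneric.inter hg1 (IsGeneric.iInter hg2))
    have hF₀1 : P (Fin.cons F₀ (Fin.tail v)) ≠ 0 := hF₀.1
    have hF₀2 : ∀ a, RingHom.Locally (RingHom.IsStandardSmoothOfRelativeDimension (n - 1))
        (algebraMap k (B a ⧸ Ideal.span {w a F₀})) := by
      intro a
      have h0 : Good k n (algebraMap k (B a ⧸ Ideal.span {w a F₀})) := Set.mem_iInter.1 hF₀.2 a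
      rcases h0 with h | h
      · exact h.2
      · exact absurd h.1 (by omega)
    have := fun a => (inferInstance : Algebra.FiniteType k (B a ⧸ Ideal.span {w a F₀}))
    obtain ⟨F, hF1, hF2⟩ := ih (n - 1) (by omega) (fun a => B a ⧸ Ideal.span {w a F₀}) hF₀2
      (fun a => (Ideal.Quotient.mkₐ k (Ideal.span {w a F₀})).toLinearMap ∘ₗ w a) (fun a => (hw a).quot _)
      (fun F => P (Fin.cons F₀ F)) (Groth.Agent.Lefpen.H879.Lat.isPolyFun_cons_right hP F₀) ⟨Fin.tail v, hF₀1⟩
    refine ⟨Fin.cons F₀ F, hF1, fun a => ?_⟩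
    have h1 := hF2 a
    have h2 : n - 1 - r = n - (r + 1) := by omega
    rw [h2] at h1
    have hRI := RingHom.isStandardSmoothOfRelativeDimension_respectsIso (n := n - (r + 1))
    have h3 : (Ideal.span (Set.range fun j : Fin r => w a (F j))).map (Ideal.Quotient.mk (Ideal.span {w a F₀})) =
        Ideal.span (Set.range fun j : Fin r =>
          ((Ideal.Quotient.mkₐ k (Ideal.span {w a F₀})).toLinearMap ∘ₗ w a) (F j)) := by
      rw [Ideal.map_span, ← Set.range_comp]
      rfl
    rw [← h3] at h1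
    have h4 : Ideal.span {w a F₀} ⊔ Ideal.span (Set.range fun j : Fin r => w a (F j)) =
        Ideal.span (Set.range fun j : Fin (r + 1) => w a ((Fin.cons F₀ F : Fin (r + 1) → V) j)) := by
      rw [← Ideal.span_union]
      congr 1
      ext x
      constructor
      · rintro (h | ⟨j, rfl⟩)
        · exact ⟨0, by simpa using h.symm⟩
        · exact ⟨j.succ, by simp⟩
      · rintro ⟨j, rfl⟩
        refine Fin.cases ?_ (fun j => ?_) j
        · left; simp
        · right; exact ⟨j, by simp⟩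
    rw [← h4]
    have h5 := (RingHom.locally_respectsIso hRI).1 _
      (DoubleQuot.quotQuotEquivQuotSup (Ideal.span {w a F₀}) (Ideal.span (Set.range fun j : Fin r => w a (F j)))) h1
    exact h5

end K934.GenIter
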