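import Groth.Agent.Lift.K934.InvJets
import Groth.Agent.Lift.K934.GenIter
import Groth.Agent.Lift.K934.NoZero
import Groth.Agent.FlatB.AffSpaceSmooth
import Groth.Agent.Lefpen.H879.Lat

/-!
# Smooth complete intersections of invariant forms avoiding the points with nontrivial stabiliser
-/

set_option autoImplicit false
universe u

open CategoryTheory AlgebraicGeometry Limits MvPolynomial

namespace K934.InvCI

open LefPen Groth.Agent Groth.Agent.Lefpen Groth.Agent.Lefpen.H170 Groth.Agent.Sga5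
open Groth.Agent.Lefpen.H705.HypIdeal Groth.Agent.Lefpen.H705.SecIdeal Groth.Agent.Lefpen.H705.ChartPoly
open Groth.Agent.Lefpen.H708.Geo K934.InvJets K934.GenIter

variable {r : ℕ} {k : Type u} [Field k] {d : ℕ} {V : Type u} [AddCommGroup V] [Module k V] (Φ : V →ₗ[k] Form r k d)

/-- Dehomogenisation as a linear map on a space of forms. -/
noncomputable def dl (j : Fin (r + 1)) :=
  (H708.Transversal.eqnL (AlgHom.id k (MvPolynomial (Fin r) k)) d j) ∘ₗ Φ

theorem dl_apply (j : Fin (r + 1)) (F : V) : dl Φ j F = ProjChart.dehom r k j (Φ F).1 := rfl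

/-- Smoothness of the section on a chart from the principal opens. -/
theorem locally_chart {s n : ℕ} {κ : Type} (j : Fin (r + 1)) (F : Fin s → V)
    (g : κ → MvPolynomial (Fin r) k)
    (hcov : Ideal.span ((Set.range fun i => dl Φ j (F i)) ∪ Set.range g) = ⊤)
    (h : ∀ l, RingHom.Locally (RingHom.IsStandardSmoothOfRelativeDimension n)
      (algebraMap k (Localization.Away (g l) ⧸ Ideal.span (Set.range fun i =>
        ((IsScalarTower.toAlgHom k (MvPolynomial (Fin r) k) (Localization.Away (g l))).toLinearMap ∘ₗ dl Φ j) (F i))))) :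
    RingHom.Locally (RingHom.IsStandardSmoothOfRelativeDimension n)
      (algebraMap k (MvPolynomial (Fin r) k ⧸ Ideal.span (Set.range fun i => dl Φ j (F i)))) := by
  set I : Ideal (MvPolynomial (Fin r) k) := Ideal.span (Set.range fun i => dl Φ j (F i)) with hI
  have hRI := RingHom.isStandardSmoothOfRelativeDimension_respectsIso (n := n)
  refine RingHom.OfLocalizationSpanTarget.ofIsLocalization
    (RingHom.locally_ofLocalizationSpanTarget hRI) (RingHom.locally_respectsIso hRI)
    (algebraMap k (MvPolynomial (Fin r) k ⧸ I)) (Ideal.Quotient.mk I '' (Set.range g)) ?_ ?_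
  · rw [← Ideal.map_span]
    have h1 : Ideal.map (Ideal.Quotient.mk I) (Ideal.span ((Set.range fun i => dl Φ j (F i)) ∪ Set.range g)) = ⊤ := by
      rw [hcov, Ideal.map_top]
    rw [Ideal.span_union, Ideal.map_sup, ← hI, Ideal.map_quotient_self, bot_sup_eq] at h1
    exact h1
  · rintro ⟨_, _, ⟨l, rfl⟩, rfl⟩
    have := H708.ChartGeneric.isLocalizationAway_quotient (g l) (T := Localization.Away (g l)) I
    refine ⟨Localization.Away (g l) ⧸ I.map (algebraMap _ (Localization.Away (g l))), inferInstance, inferInstance,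
      this, ?_⟩
    have h2 : I.map (algebraMap _ (Localization.Away (g l))) = Ideal.span (Set.range fun i =>
        ((IsScalarTower.toAlgHom k (MvPolynomial (Fin r) k) (Localization.Away (g l))).toLinearMap ∘ₗ dl Φ j) (F i)) := by
      rw [hI, Ideal.map_span, ← Set.range_comp]
      rfl
    have h3 := h l
    rw [← h2] at h3
    convert h3 using 1
    ext x
    rfl

/-- Smoothness of the section from the charts. -/
theorem smooth_of_charts {s n : ℕ} (F : Fin s → V)
    (h : ∀ j : Fin (r + 1), RingHom.Locally (RingHom.IsStandardSmoothOfRelativeDimension n)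
      (algebraMap k (MvPolynomial (Fin r) k ⧸ Ideal.span (Set.range fun i => dl Φ j (F i))))) :
    SmoothOfRelativeDimension n ((ciIdeal (fun i => Φ (F i))).subschemeι ≫ CohB1.ProjSpace.toSpec r k) := by
  let S : Set (Form r k d) := Set.range fun i => Φ (F i)
  have h1 : SmoothOfRelativeDimension n (secToSpec (𝟙 (CohB1.ProjSpace r k)) S) := by
    refine smoothOfRelativeDimension_secToSpec _ S n fun j => ?_
    have hbij : Function.Bijective (coordU (𝟙 (CohB1.ProjSpace r k)) j (𝟙 (CohB1.ProjSpace r k) ⁻¹ᵁ chart r k j) le_rfl) := by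
      rw [coordU, RingHom.coe_comp]
      refine Function.Bijective.comp ?_ (polyToChart_bijective j)
      have h3 : (𝟙 (CohB1.ProjSpace r k) : _ ⟶ _).appLE (chart r k j) (𝟙 (CohB1.ProjSpace r k) ⁻¹ᵁ chart r k j) le_rfl =
          (𝟙 (CohB1.ProjSpace r k) : _ ⟶ _).app (chart r k j) := (Scheme.Hom.app_eq_appLE _).symm
      rw [h3]
      exact ConcreteCategory.bijective_of_isIso _
    let φ := RingEquiv.ofBijective _ hbij
    have hmap : Ideal.span (eqn (𝟙 (CohB1.ProjSpace r k)) j (𝟙 (CohB1.ProjSpace r k) ⁻¹ᵁ chart r k j) le_rfl '' S) =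
        (Ideal.span (Set.range fun i => dl Φ j (F i))).map (φ : _ →+* _) := by
      rw [Ideal.map_span, ← Set.range_comp, ← Set.range_comp]
      congr 2
      funext i
      exact eqn_eq _ j _ le_rfl (Φ (F i))
    let e := Ideal.quotientEquiv _ _ φ hmap
    have hRI := RingHom.isStandardSmoothOfRelativeDimension_respectsIso (n := n)
    exact (RingHom.locally_respectsIso hRI).1 _ e (h j)
  have h2 : ciIdeal (fun i => Φ (F i)) = (𝟙 (CohB1.ProjSpace r k) : _ ⟶ _).ker ⊔ ⨆ H ∈ S, hypIdeal H := by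
    have h3 : (𝟙 (CohB1.ProjSpace r k) : _ ⟶ _).ker = ⊥ := Scheme.Hom.ker_eq_bot_of_isIso _
    rw [h3, bot_sup_eq, iSup_range]
    rfl
  obtain ⟨e, he⟩ := H879.Lat.exists_iso_sec_set (𝟙 (CohB1.ProjSpace r k)) S
  rw [h2]
  refine (H879.Lat.smoothOfRelativeDimension_congr n _ _ e ?_).1 h1
  rw [← Category.assoc, he, Category.assoc]

theorem jetGen_poly [IsAlgClosed k] (w : V →ₗ[k] MvPolynomial (Fin r) k)
    (g : MvPolynomial (Fin r) k)
    (h : ∀ v : Fin r → k, eval v g ≠ 0 → ∀ p : MvPolynomial (Fin r) k, ∃ (F : V) (q : MvPolynomial (Fin r) k),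
      w F = q ∧ q - p ∈ H702.AffAlg.ptIdeal v ^ 2) :
    JetGen ((IsScalarTower.toAlgHom k (MvPolynomial (Fin r) k) (Localization.Away g)).toLinearMap ∘ₗ w) := by
  refine JetGen.away g w (fun 𝔪 h𝔪 hg p => ?_) (Localization.Away g)
  obtain ⟨v, hv⟩ := H702.LocAlg.exists_point (RingHom.id (MvPolynomial (Fin r) k)) Function.surjective_id 𝔪
  have hv' : 𝔪 = H702.AffAlg.ptIdeal v := hv
  rw [hv', H702.AffAlg.mem_ptIdeal_iff] at hg
  rw [hv']
  obtain ⟨F, q, h1, h2⟩ := h v hg p
  exact ⟨F, by rw [h1]; exact h2⟩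

theorem locally_loc (g : MvPolynomial (Fin r) k) :
    RingHom.Locally (RingHom.IsStandardSmoothOfRelativeDimension r) (algebraMap k (Localization.Away g)) := by
  have h1 := Groth.Agent.FlatB.AffSpaceSmooth.isStandardSmoothOfRelativeDimension k r
  have h2 : Algebra.IsStandardSmoothOfRelativeDimension 0 (MvPolynomial (Fin r) k) (Localization.Away g) :=
    Algebra.IsStandardSmoothOfRelativeDimension.localization_away g
  have h3 := Algebra.IsStandardSmoothOfRelativeDimension.trans r 0 k (MvPolynomial (Fin r) k) (Localization.Away g)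
  rw [zero_add] at h3
  refine RingHom.locally_of RingHom.isStandardSmoothOfRelativeDimension_respectsIso _ ?_
  rw [RingHom.isStandardSmoothOfRelativeDimension_algebraMap]
  exact h3

/-- Smooth complete intersections of members of a linear system of forms generating the jets off the common zeros of
the forms `b`, provided some tuple has no common zero with the `b`. -/
theorem exists_ci_sys [IsAlgClosed k] [FiniteDimensional k V]
    {κ : Type} [Finite κ] {e : κ → ℕ} (b : ∀ l, Form r k (e l))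
    (hjet : ∀ (j : Fin (r + 1)) (v : Fin r → k), (∃ l, eval (H702.Dict.homCoords j v) (b l).1 ≠ 0) →
      ∀ p : MvPolynomial (Fin r) k, ∃ F : V, ProjChart.dehom r k j (Φ F).1 - p ∈ H702.AffAlg.ptIdeal v ^ 2)
    (s : ℕ) (hs : s ≤ r) (E : Fin s → V) (D : ℕ)
    (hD : ∀ Q : Form r k D, Q.1 ∈ NoZero.idl (fun j => (Φ (E j)).1) (fun l => (b l).1)) :
    ∃ F : Fin s → V, (∀ Q : Form r k D, Q.1 ∈ NoZero.idl (fun j => (Φ (F j)).1) (fun l => (b l).1)) ∧
      SmoothOfRelativeDimension (r - s) ((ciIdeal (fun i => Φ (F i))).subschemeι ≫ CohB1.ProjSpace.toSpec r k) := by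
  obtain ⟨P, hP1, hP2, hP3⟩ := NoZero.exists_polyFun Φ b E D hD
  have hjet' : ∀ a : Fin (r + 1) × κ, JetGen ((IsScalarTower.toAlgHom k (MvPolynomial (Fin r) k)
      (Localization.Away (ProjChart.dehom r k a.1 (b a.2).1))).toLinearMap ∘ₗ dl Φ a.1) := by
    intro a
    refine jetGen_poly (dl Φ a.1) _ (fun v hg p => ?_)
    rw [H702.Dict.eval_dehom] at hg
    obtain ⟨F, hFp⟩ := hjet a.1 v ⟨a.2, hg⟩ p
    exact ⟨F, _, dl_apply _ _ _, hFp⟩
  obtain ⟨F, hF1, hF2⟩ := exists_iter (V := V) s r hs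
    (fun a : Fin (r + 1) × κ => Localization.Away (ProjChart.dehom r k a.1 (b a.2).1)) (fun a => locally_loc _) _
    hjet' P hP1 ⟨E, hP2⟩
  refine ⟨F, hP3 F hF1, smooth_of_charts _ F fun j => ?_⟩
  refine locally_chart Φ j F (fun l => ProjChart.dehom r k j (b l).1) ?_ fun l => hF2 (j, l)
  have h1 := hP3 F hF1 ⟨X j ^ D, (mem_homogeneousSubmodule _ _).2 (by simpa using (isHomogeneous_X k j).pow D)⟩
  have h2 := Ideal.mem_map_of_mem (ProjChart.dehom r k j) h1
  rw [map_pow, ProjChart.dehom_X_self, one_pow, NoZero.idl, Ideal.map_span, Set.image_union, ← Set.range_comp,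
    ← Set.range_comp] at h2
  exact (Ideal.eq_top_iff_one _).2 h2

/-- A linear parametrisation of a space of forms. -/
theorem exists_param (W : Submodule k (Form r k d)) :
    ∃ (m : ℕ) (Φ : (Fin m → k) →ₗ[k] Form r k d), ∀ F : Form r k d, F ∈ W ↔ ∃ c, Φ c = F := by
  have hfd : FiniteDimensional k (Form r k d) := NoZero.finite_form d
  have hN : IsNoetherian k (Form r k d) := inferInstance
  obtain ⟨m, v, hv⟩ := Submodule.fg_iff_exists_fin_generating_family.1 (hN.noetherian W)
  refine ⟨m, Fintype.linearCombination k v, fun F => ?_⟩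
  rw [← hv, ← Fintype.range_linearCombination, LinearMap.mem_range]

/-- Smooth complete intersections of forms invariant under a finite linear group `G`, in a locus where `G` acts freely:
the forms `b` vanish at the points with nontrivial stabiliser, and the invariant forms `E` have no common zero there. -/
theorem exists_ci [IsAlgClosed k] {G : Type*} [Group G] [Fintype G]
    (τ : G →* ((Fin (r + 1) → k) ≃ₗ[k] (Fin (r + 1) → k))) (hd : 2 * Fintype.card G ≤ d + 1)
    {κ : Type} [Finite κ] {e : κ → ℕ} (b : ∀ l, Form r k (e l))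
    (hfree : ∀ v : Fin (r + 1) → k, (∃ l, eval v (b l).1 ≠ 0) → ∀ g : G, g ≠ 1 → ∀ c : k, τ g v ≠ c • v)
    (s : ℕ) (hs : s ≤ r) (E : Fin s → Form r k d) (hE : ∀ j, E j ∈ inv τ d) (D : ℕ)
    (hD : ∀ Q : Form r k D, Q.1 ∈ NoZero.idl (fun j => (E j).1) (fun l => (b l).1)) :
    ∃ F : Fin s → Form r k d, (∀ j, F j ∈ inv τ d) ∧
      (∀ Q : Form r k D, Q.1 ∈ NoZero.idl (fun j => (F j).1) (fun l => (b l).1)) ∧
      SmoothOfRelativeDimension (r - s) ((ciIdeal F).subschemeι ≫ CohB1.ProjSpace.toSpec r k) := by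
  obtain ⟨m, Φ, hΦ⟩ := exists_param (inv τ d)
  choose c hc using fun j => (hΦ (E j)).1 (hE j)
  obtain ⟨F, h1, h2⟩ := exists_ci_sys Φ b (fun j v hv p => by
    obtain ⟨F, hF, hFp⟩ := exists_jet τ v j (hfree _ hv) d hd p
    obtain ⟨a, rfl⟩ := (hΦ F).1 hF
    exact ⟨a, hFp⟩) s hs c D (by simpa only [hc] using hD)
  exact ⟨fun j => Φ (F j), fun j => (hΦ _).2 ⟨_, rfl⟩, h1, h2⟩

end K934.InvCI
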