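import Groth.Agent.Lift.K934.CycTr
import Groth.Agent.Sga1.QuotAct
import Groth.Agent.Sga1.FreeQuotSch
import Groth.Agent.Fdesc.PullbackSec
import Groth.Agent.FormalA.PullbackQC
import Groth.Agent.CurvesB.HZero

/-!
# Sections inject under the pullback along a free quotient
-/

set_option autoImplicit false
universe u

open CategoryTheory CategoryTheory.Limits AlgebraicGeometry Opposite TensorProduct

namespace K934.PullInj

open Groth.Agent Groth.Agent.Sga1

section Alg

variable {A B G M N : Type*} [CommRing A] [CommRing B] [Algebra A B] [Group G] [Fintype G]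
  [MulSemiringAction G B] [SMulCommClass G A B] [Algebra.IsInvariant A B G]
  [AddCommGroup M] [Module A M] [AddCommGroup N] [Module A N] [Module B N] [IsScalarTower A B N]

theorem exists_retraction (hinj : Function.Injective (algebraMap A B)) (x : B)
    (hx : ∑ g : G, g • x = 1) : ∃ r : B →ₗ[A] A, r 1 = 1 := by
  have h1 : ∀ b : B, ∃ a : A, algebraMap A B a = ∑ g : G, g • (b * x) := fun b =>
    Algebra.IsInvariant.isInvariant (G := G) _ fun g => by
      rw [Finset.smul_sum]
      exact Fintype.sum_equiv (Equiv.mulLeft g) _ _ (fun h => by simp [mul_smul])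
  choose r hr using h1
  refine ⟨{ toFun := r, map_add' := fun a b => ?_, map_smul' := fun a b => ?_ }, ?_⟩
  · apply hinj
    rw [map_add, hr, hr, hr, ← Finset.sum_add_distrib]
    simp only [add_mul, smul_add]
  · apply hinj
    rw [RingHom.id_apply, smul_eq_mul, map_mul, hr, hr, Finset.mul_sum]
    refine Finset.sum_congr rfl fun g _ => ?_
    rw [smul_mul_assoc, smul_comm, Algebra.smul_def]
  · change r 1 = 1
    apply hinj
    rw [hr, one_mul, hx, map_one]

theorem injective_of_retraction {r : B →ₗ[A] A} (hr : r 1 = 1) (f : M →ₗ[A] N)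
    (hf : IsBaseChange B f) : Function.Injective f := by
  rw [injective_iff_map_eq_zero]
  intro m hm
  have h1 : hf.equiv.symm (f m) = (1 : B) ⊗ₜ[A] m := by
    rw [LinearEquiv.symm_apply_eq, hf.equiv_tmul, one_smul]
  rw [hm, map_zero] at h1
  have h2 := congrArg (fun z => TensorProduct.lid A M (LinearMap.rTensor M r z)) h1.symm
  simpa [hr] using h2

end Alg

variable {Y Z : Scheme.{u}} {G : Type u} [Group G] {ρ : G →* Aut Y} {p : Y ⟶ Z}
  (hp : SGA1.IsQuot ρ p) [Fintype G] (hfree : FreeQuotSch.IsFree ρ)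

include hp hfree in
theorem pullSec_injective (M : Z.Modules) (hM : Coh.IsQCoh M) {U : Z.Opens} (hU : IsAffineOpen U) :
    letI := Fdesc.PullbackSec.secModule p (le_refl (p ⁻¹ᵁ U)) ((Scheme.Modules.pullback p).obj M)
    Function.Injective (Fdesc.PullbackSec.pullSec p (le_refl (p ⁻¹ᵁ U)) M) := by
  let _ := QuotAct.act ρ p hp.inv U
  let _ := Fdesc.PullbackSec.secAlg p (le_refl (p ⁻¹ᵁ U))
  let _ := Fdesc.PullbackSec.secModule p (le_refl (p ⁻¹ᵁ U)) ((Scheme.Modules.pullback p).obj M)
  have := Fdesc.PullbackSec.isScalarTower_sec p (le_refl (p ⁻¹ᵁ U)) ((Scheme.Modules.pullback p).obj M)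
  have := hp.affine
  have hb := Fdesc.PullbackSec.isBaseChange_pullSec p (le_refl (p ⁻¹ᵁ U)) hU (hU.preimage p) M hM
    (FormalA.PullbackQC.isQCoh_pullback p M hM)
  have halg : (p.appLE U (p ⁻¹ᵁ U) le_rfl) = p.app U := by
    rw [Scheme.Hom.appLE_eq_app]
  have hinj : Function.Injective (p.appLE U (p ⁻¹ᵁ U) le_rfl).hom := by
    rw [halg]; exact hp.injective U
  have hinv : Algebra.IsInvariant Γ(Z, U) Γ(Y, p ⁻¹ᵁ U) G := by
    refine ⟨fun b hb => ?_⟩
    obtain ⟨a, ha⟩ := (QuotAct.mem_range_iff hp U b).2 hb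
    refine ⟨a, ?_⟩
    change (p.appLE U (p ⁻¹ᵁ U) le_rfl).hom a = b
    rw [halg]
    exact ha
  have hcomm : SMulCommClass G Γ(Z, U) Γ(Y, p ⁻¹ᵁ U) := by
    refine ⟨fun g a b => ?_⟩
    rw [Algebra.smul_def, Algebra.smul_def, smul_mul']
    congr 1
    change g • (p.appLE U (p ⁻¹ᵁ U) le_rfl).hom a = _
    rw [halg]
    exact (QuotAct.smul_app hp.inv U g a).trans (congrArg (fun t => t.hom a) halg.symm)
  obtain ⟨x, hx⟩ := CycTr.exists_trace_one (A := Γ(Z, U)) (B := Γ(Y, p ⁻¹ᵁ U)) (G := G) hinj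
    (fun g hg M hM => hfree.exists_notMem p hp.inv U hU g hg M hM)
  obtain ⟨r, hr⟩ := exists_retraction (G := G) hinj x hx
  exact injective_of_retraction hr _ hb

include hp hfree in
theorem section_eq_zero (M : Z.Modules) (hM : Coh.IsQCoh M) (s : Γ(M, ⊤))
    (hs : ((Scheme.Modules.pullbackPushforwardAdjunction p).unit.app M).app ⊤ s = 0) : s = 0 := by
  refine TopCat.Sheaf.eq_of_locally_eq' ⟨_, M.isSheaf⟩ (fun V : {V : Z.Opens // IsAffineOpen V} => V.1) ⊤
    (fun V => homOfLE le_top) ?_ _ _ ?_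
  · intro x hx
    obtain ⟨V, hV, hxV, hVU⟩ := (TopologicalSpace.Opens.isBasis_iff_nbhd.mp Z.isBasis_affineOpens) hx
    exact TopologicalSpace.Opens.mem_iSup.mpr ⟨⟨V, hV⟩, hxV⟩
  · intro V
    apply pullSec_injective hp hfree M hM V.2
    let _ := Fdesc.PullbackSec.secModule p (le_refl (p ⁻¹ᵁ V.1)) ((Scheme.Modules.pullback p).obj M)
    have e : ∀ t : Γ(M, ⊤), ((Scheme.Modules.pullbackPushforwardAdjunction p).unit.app M).app V.1
        (M.presheaf.map (homOfLE (le_top : V.1 ≤ ⊤)).op t) =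
        (((Scheme.Modules.pushforward p).obj ((Scheme.Modules.pullback p).obj M)).presheaf.map
          (homOfLE (le_top : V.1 ≤ ⊤)).op)
          (((Scheme.Modules.pullbackPushforwardAdjunction p).unit.app M).app ⊤ t) := fun t =>
      congr($(((Scheme.Modules.pullbackPushforwardAdjunction p).unit.app M).mapPresheaf.naturality
        (homOfLE (le_top : V.1 ≤ ⊤)).op) t)
    change ((Scheme.Modules.pullback p).obj M).presheaf.map (homOfLE (le_refl (p ⁻¹ᵁ V.1))).op
      (((Scheme.Modules.pullbackPushforwardAdjunction p).unit.app M).app V.1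
        (M.presheaf.map (homOfLE (le_top : V.1 ≤ ⊤)).op s)) =
      ((Scheme.Modules.pullback p).obj M).presheaf.map (homOfLE (le_refl (p ⁻¹ᵁ V.1))).op
      (((Scheme.Modules.pullbackPushforwardAdjunction p).unit.app M).app V.1
        (M.presheaf.map (homOfLE (le_top : V.1 ≤ ⊤)).op 0))
    have h0 : ((Scheme.Modules.pullbackPushforwardAdjunction p).unit.app M).app ⊤ (0 : Γ(M, ⊤)) = 0 :=
      map_zero _
    rw [e, e, hs, h0]

include hp hfree in
theorem subsingleton_HH_zero (M : Z.Modules) (hM : Coh.IsQCoh M)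
    (h : Subsingleton (Coh.HH Y ((Scheme.Modules.pullback p).obj M) 0)) :
    Subsingleton (Coh.HH Z M 0) := by
  have h1 : Subsingleton Γ((Scheme.Modules.pullback p).obj M, ⊤) :=
    (CurvesB.HZero.equivAdd ((Scheme.Modules.pullback p).obj M)).symm.toEquiv.subsingleton
  have h2 : Subsingleton Γ(M, ⊤) := by
    refine ⟨fun a b => ?_⟩
    rw [← sub_eq_zero]
    exact section_eq_zero hp hfree M hM _ (h1.elim _ _)
  exact (CurvesB.HZero.equivAdd M).toEquiv.subsingleton

end K934.PullInj
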