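import Groth.Agent.S2907
import Groth.Agent.S2908
import Groth.Agent.S2909
import Groth.Agent.S2925
import Groth.Agent.S1639
import Groth.Agent.Sga1.FreeQuotSch
import Groth.Agent.CalgB.ProjField
import Groth.Agent.Etdl.H2.SmoothDesc
import Groth.Agent.S2324
import Groth.Agent.S0558
import Groth.Agent.VarietyA.RegSmoothSch
import Groth.Agent.CurvesC.RegNormal
import Groth.Agent.Ega3B.ProjProper
import Mathlib.AlgebraicGeometry.Morphisms.Proper

/-!
# Free quotients of smooth projective varieties by finite groups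
-/

set_option autoImplicit false
universe u

open CategoryTheory AlgebraicGeometry Limits TopologicalSpace

namespace K934.QuotZ

open Groth.Agent

theorem isNormalScheme {k : Type u} [Field k] {X : Scheme.{u}}
    (q : X ⟶ Spec (CommRingCat.of k)) [Smooth q] : Pi1.IsNormalScheme X := fun x =>
  have : IsRegularLocalRing (X.presheaf.stalk x) :=
    Groth.Agent.VarietyA.RegSmoothSch.isRegularLocalRing_stalk_of_mem_smoothLocus q x
      (by rw [q.smoothLocus_eq_top]; trivial)
  ⟨Groth.Agent.S0558.result _, Groth.Agent.CurvesC.RegNormal.isIntegrallyClosed _⟩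

/-- The quotient of a smooth projective variety by a finite group acting freely. -/
theorem exists_quot {k : Type u} [Field k] {Y : Scheme.{u}} (f : Y ⟶ Spec (CommRingCat.of k))
    (n : ℕ) [SmoothOfRelativeDimension n f] [IsIntegral Y]
    (hY : ∃ (N : ℕ) (ι : Y ⟶ CohB1.ProjSpace N k), IsClosedImmersion ι ∧ ι ≫ CohB1.ProjSpace.toSpec N k = f)
    {G : Type u} [Group G] [Finite G] (ρ : G →* Aut Y) (hρ : ∀ g : G, (ρ g).hom ≫ f = f)
    (hfree : Sga1.FreeQuotSch.IsFree ρ) :
    ∃ (Z : Scheme.{u}) (p : Y ⟶ Z) (q : Z ⟶ Spec (CommRingCat.of k)), p ≫ q = f ∧ SGA1.IsQuot ρ p ∧ Etale p ∧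
      IsFinite p ∧ Surjective p ∧ SmoothOfRelativeDimension n q ∧ IsIntegral Z ∧ IsProper q ∧
      ∃ (M : ℕ) (j : Z ⟶ CohB1.ProjSpace M k), IsClosedImmersion j ∧ j ≫ CohB1.ProjSpace.toSpec M k = q := by
  obtain ⟨N, ι, hι, hιf⟩ := hY
  have hPr : IsProper (CohB1.ProjSpace.toSpec N k) := Ega3B.ProjProper.isProper_toSpec N k
  have hf : IsProper f := by rw [← hιf]; infer_instance
  -- an ample module on `Y`
  obtain ⟨L, hL⟩ : ∃ L : Y.Modules, CohB1.IsAmple L := by
    have h1 := (CalgB.ProjImm.closedImmersion_iff (CalgB.ProjField.exists_isAmple_of_isAffine _) f).1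
      ⟨N, ι ≫ (CohqB.ProjBC.projSpaceOverIso N k).inv, inferInstance, by
        rw [Category.assoc, ← hιf, ← CohqB.ProjBC.projSpaceOverIso_hom_toSpec, Iso.inv_hom_id_assoc]⟩
    exact h1.2
  have hYc : CompactSpace Y := by
    have : QuasiCompact f := inferInstance
    exact (quasiCompact_iff_compactSpace (f := f)).1 this
  have hYs : Y.IsSeparated := ⟨by
    have h1 : terminal.from Y = f ≫ terminal.from _ := by simp
    rw [h1]
    infer_instance⟩
  obtain ⟨Z, p, hp⟩ := S2907.result ρ (fun x => by
    obtain ⟨m, s, h1, -, h3⟩ := S2324.result Y L hL (Set.range fun g : G => (ρ g).hom x) (Set.finite_range _) ⊤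
      (fun _ _ => trivial)
    exact ⟨_, h3, fun g => h1 ⟨g, rfl⟩⟩)
  obtain ⟨q, hq, -⟩ := S2925.result ρ p hp _ f hρ
  have hq : p ≫ q = f := hq
  obtain ⟨-, h2, h3, h4⟩ := S2909.result ρ p hp f q hq hρ
  have hfin : IsFinite p := h3 inferInstance
  obtain ⟨h5, h6⟩ := h4 inferInstance inferInstance inferInstance
  have hsep : IsSeparated q := h2.1 inferInstance
  have hsurj : Surjective p := ⟨(S2908.result ρ p hp).1⟩
  have hcl : UniversallyClosed (p ≫ q) := by rw [hq]; infer_instance
  have hcl' : UniversallyClosed q := UniversallyClosed.of_comp_surjective p q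
  have hprop : IsProper q := {}
  have het : Etale p := Sga1.FreeQuotSch.etale_of_isFree hp hfree
  have hsm : SmoothOfRelativeDimension n q :=
    Etdl.H2.SmoothDesc.smoothOfRelativeDimension p q n (by rw [hq]; infer_instance)
  have hsm' : Smooth q := SmoothOfRelativeDimension.smooth n q
  have hnorm : Pi1.IsNormalScheme Z := isNormalScheme q
  have hirr : IrreducibleSpace Z := by
    rw [irreducibleSpace_def]
    have h7 := (IrreducibleSpace.isIrreducible_univ Y).image p p.continuous.continuousOn
    rwa [Set.image_univ, hsurj.surj.range_eq] at h7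
  have hred : IsReduced Z := by
    have : ∀ x : Z, _root_.IsReduced (Z.presheaf.stalk x) := fun x => by
      have := (hnorm x).1
      infer_instance
    exact isReduced_of_isReduced_stalk Z
  have hint : IsIntegral Z := isIntegral_of_irreducibleSpace_of_isReduced Z
  obtain ⟨N', hN'⟩ := S1639.result p hnorm L hL
  obtain ⟨M, j, hj, hjq⟩ := CalgB.ProjField.exists_closedImmersion_projSpace q ⟨N', hN'⟩
  exact ⟨Z, p, q, hq, hp, het, hfin, hsurj, hsm, hint, hprop, M, j, hj, hjq⟩

end K934.QuotZ
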