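import Groth.Agent.Lift.K934.ZpAct
import Groth.Agent.Lift.K934.InvCI
import Groth.Agent.Lift.K934.Act
import Groth.Agent.Lift.K934.QuotZ
import Groth.Agent.Lift.K934.HCoh
import Groth.Agent.Lift.K934.PullInj
import Groth.Agent.CurvSt.K898.HZeroOne
import Groth.Agent.Neron.K486.CompTop
import Groth.Agent.S15540
import Groth.Agent.S4040
import Groth.Agent.S4041
import Groth.Agent.Sga67.TensorOps

/-!
# Godeaux–Serre varieties for `ℤ/p` in characteristic `p`
-/

set_option autoImplicit false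
universe u

open CategoryTheory CategoryTheory.Limits AlgebraicGeometry Opposite

namespace K934.GS

open LefPen Groth.Agent Groth.Agent.Sga1

/-- For every `D ≥ 1` there is a smooth projective variety `Z` of dimension `D` with `h^{0,i} = 1` for `i < D` and
`h^{i,0} = 0` for `0 < i < D`. -/
theorem exists_variety (k : Type u) [Field k] [IsAlgClosed k] (pc : ℕ) [Fact pc.Prime] [CharP k pc]
    (D : ℕ) (hD : 1 ≤ D) :
    ∃ (Z : Scheme.{u}) (_ : Z.Over (Spec (CommRingCat.of k))) (N : ℕ) (ι : Z ⟶ CohB1.ProjSpace N k),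
      IsIntegral Z ∧ SmoothOfRelativeDimension D (Z ↘ Spec (CommRingCat.of k)) ∧ IsClosedImmersion ι ∧
      ι ≫ CohB1.ProjSpace.toSpec N k = Z ↘ Spec (CommRingCat.of k) ∧
      (∀ i : ℕ, i < D → Module.finrank k (Coh.HH Z (Coh.structureModule Z) i) = 1) ∧
      (∀ i : ℕ, 0 < i → i < D → ∀ E : Z.Modules, ExtPow.IsExtPow i (Omega.sheaf (Z ↘ Spec (CommRingCat.of k))) E →
        Subsingleton (Coh.HH Z E 0)) := by
  have hpc : pc.Prime := Fact.out
  -- the linear representation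
  let e : Fin (D + 1) ⊕ Fin (D + 1) ≃ Fin (D + (D + 1) + 1) :=
    finSumFinEquiv.trans (finCongr (by omega))
  obtain ⟨F, hF, hFD, hsm⟩ := InvCI.exists_ci (d := 2 * pc) (ZpAct.τ (k := k) e pc)
    (by rw [ZpAct.card_G]; omega) (fun l => (ZpAct.b e l : Form _ k 1)) (ZpAct.free e pc) (D + 1) (by omega)
    (ZpAct.E e pc) (ZpAct.E_mem e pc) ((D + 1) * (2 * pc) + 1) (ZpAct.mem_idl e pc)
  have hr : D + (D + 1) - (D + 1) = D := by omega
  rw [hr] at hsm
  let _ : (Act.Y F).Over (Spec (CommRingCat.of k)) := ⟨Act.yStr F⟩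
  have ha : ∀ j : Fin (D + 1), 1 ≤ (fun _ : Fin (D + 1) => 2 * pc) j := fun _ => by
    have := hpc.one_lt
    change 1 ≤ 2 * pc
    omega
  have hI0 := Sga67.TensorOps.isExtPow_zero (Omega.sheaf (Act.yStr F))
  have h0 : Module.finrank k (Coh.HH (Act.Y F) (Coh.structureModule (Act.Y F)) 0) = 1 :=
    S4041.result k D (D + 1) (by omega) (fun _ => 2 * pc) ha F rfl 0 (by omega) (by omega) _ hI0
  have hvan : ∀ i, 0 < i → i < D → Subsingleton (Coh.HH (Act.Y F) (Coh.structureModule (Act.Y F)) i) :=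
    fun i h1 h2 => S4040.result k D (D + 1) (by omega) (fun _ => 2 * pc) ha F 0 _ hI0 i (by omega) (by omega)
  have hvan' : ∀ i, 0 < i → i < D → ∀ E : (Act.Y F).Modules, ExtPow.IsExtPow i (Omega.sheaf (Act.yStr F)) E →
      Subsingleton (Coh.HH (Act.Y F) E 0) :=
    fun i h1 h2 E hE => S4040.result k D (D + 1) (by omega) (fun _ => 2 * pc) ha F i _ hE 0 (by omega) (by omega)
  have hsmY : Smooth (Act.yStr F) := SmoothOfRelativeDimension.smooth D _
  have hconn : ConnectedSpace (Act.Y F) := K898.HZeroOne.connectedSpace_of_finrank k _ h0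
  have hint : IsIntegral (Act.Y F) := K486.CompTop.isIntegral_of_connected (Act.yStr F)
  have hfree : FreeQuotSch.IsFree (Act.ρ (ZpAct.τ (k := k) e pc) hF) := fun K _ _ ξ g hξ =>
    Act.free (ZpAct.τ (k := k) e pc) hF (fun l => (ZpAct.b e l : Form _ k 1)) (ZpAct.free e pc) _ hFD K ξ g hξ
  obtain ⟨Z, p, q, hpq, hp, het, hfin, hsurj, hsmZ, hintZ, hprop, M, j, hj, hjq⟩ :=
    QuotZ.exists_quot (Act.yStr F) D ⟨_, Act.yι F, inferInstance, rfl⟩ (Act.ρ (ZpAct.τ (k := k) e pc) hF)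
      (Act.ρ_str _ hF) hfree
  let _ : Z.Over (Spec (CommRingCat.of k)) := ⟨q⟩
  have hG : (Fintype.card (ZpAct.G.{u} pc) : k) = 0 := by
    rw [ZpAct.card_G, CharP.cast_eq_zero]
  refine ⟨Z, ⟨q⟩, M, j, hintZ, hsmZ, hj, hjq, fun i hi => ?_, fun i h1 h2 E hE => ?_⟩
  · exact HCoh.finrank_O k hp (ZpAct.σ pc) (ZpAct.mem_zpowers pc) hfree hG hpq D h0 hvan i hi
  · have hQS : QuasiSeparated q := inferInstance
    have h3 : ExtPow.IsExtPow i (Omega.sheaf (Act.yStr F)) ((Scheme.Modules.pullback p).obj E) :=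
      S15540.result Z (Spec (CommRingCat.of k)) (Act.Y F) (Spec (CommRingCat.of k)) q (Act.yStr F) p (𝟙 _)
        (by rw [hpq, Category.comp_id]) i E hE
    have hΩ : Coh.IsQCoh (Omega.sheaf q) :=
      K583.UnivAffine.isQuasicoherent_of_isUniversal (K136.UnivOmega.isUniversal_dOmega q)
    exact PullInj.subsingleton_HH_zero hp hfree E (K583.ExtPowPull.isQCoh_of_isExtPow hΩ hE)
      (hvan' i h1 h2 _ h3)

end K934.GS
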