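import Groth.Agent.Lift.K934.ElAct
import Groth.Agent.Lift.K934.InvCI
import Groth.Agent.Lift.K934.Act
import Groth.Agent.Lift.K934.QuotZ
import Groth.Agent.CurvSt.K898.HZeroOne
import Groth.Agent.Neron.K486.CompTop
import Groth.Agent.S4040
import Groth.Agent.S4041
import Groth.Agent.S14332
import Groth.Agent.S14333
import Groth.Agent.ProjAut.K654.PnAut
import Groth.Agent.Curves.K319.PnSep
import Groth.Agent.Sga67.TensorOps
import Groth.Agent.Sga4B.RelCurveFibre

/-!
# Free quotients of three-dimensional complete intersections by large elementary abelian groups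

`exists_cover`: over an algebraically closed field `k` of characteristic `p` an étale Galois covering `Y ⟶ Z` with group
`(ℤ/p)^15`, `Z` smooth projective of dimension three, `Y` a smooth complete intersection in `P^7` on which the group
acts linearly.
-/

set_option autoImplicit false
universe u

open CategoryTheory CategoryTheory.Limits AlgebraicGeometry TopologicalSpace Opposite

namespace K934.NLift

open LefPen Groth.Agent Groth.Agent.Sga1 Groth.Agent.Lefpen Groth.Agent.Lefpen.H170.LinAut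

/-- The group. -/
abbrev G (p : ℕ) : Type u := ULift.{u} (Multiplicative (Fin 15 → ZMod p))

instance isIso_autHom {r : ℕ} {k : Type u} [Field k] [Infinite k] (L : (Fin (r + 1) → k) ≃ₗ[k] (Fin (r + 1) → k)) :
    IsIso (autHom L) := by
  have h1 : autHom (1 : (Fin (r + 1) → k) ≃ₗ[k] (Fin (r + 1) → k)) = 𝟙 _ := by
    have h2 := autHom_comp (1 : (Fin (r + 1) → k) ≃ₗ[k] (Fin (r + 1) → k)) 1 (by ext1 x; rfl)
    have h3 := Act.autHom_trans (1 : (Fin (r + 1) → k) ≃ₗ[k] (Fin (r + 1) → k)) 1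
    have h4 : (1 : (Fin (r + 1) → k) ≃ₗ[k] (Fin (r + 1) → k)).trans (1 : (Fin (r + 1) → k) ≃ₗ[k] (Fin (r + 1) → k)) = 1 := rfl
    rw [h4] at h3
    rw [← h3]
    exact h2
  refine ⟨autHom L.symm, ?_, ?_⟩
  · rw [Act.autHom_trans, L.self_trans_symm]
    exact h1
  · rw [Act.autHom_trans, L.symm_trans_self]
    exact h1

theorem exists_cover (k : Type u) [Field k] [IsAlgClosed k] (p : ℕ) [Fact p.Prime] [CharP k p] :
    ∃ (Y Z : Scheme.{u}) (ι : Y ⟶ CohB1.ProjSpace 7 k) (g : Z ⟶ Spec (CommRingCat.of k)) (q : Y ⟶ Z)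
      (ρ : G.{u} p →* Aut Y),
      q ≫ g = ι ≫ CohB1.ProjSpace.toSpec 7 k ∧ IsFinite q ∧ Etale q ∧ Surjective q ∧ IsIntegral Y ∧ IsIntegral Z ∧
      SmoothOfRelativeDimension 3 (ι ≫ CohB1.ProjSpace.toSpec 7 k) ∧ SmoothOfRelativeDimension 3 g ∧
      (∃ (M : ℕ) (j : Z ⟶ CohB1.ProjSpace M k), IsClosedImmersion j ∧ j ≫ CohB1.ProjSpace.toSpec M k = g) ∧
      IsClosedImmersion ι ∧ SGA1.IsQuot ρ q ∧
      (∀ γ, ∃ τ : CohB1.ProjSpace 7 k ⟶ CohB1.ProjSpace 7 k, IsIso τ ∧
        τ ≫ CohB1.ProjSpace.toSpec 7 k = CohB1.ProjSpace.toSpec 7 k ∧ (ρ γ).hom ≫ ι = ι ≫ τ) ∧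
      FreeQuotSch.IsFree ρ ∧ Subsingleton (Coh.HH Y (Coh.structureModule Y) 1) ∧
      Subsingleton (Coh.HH Y (Coh.structureModule Y) 2) ∧
      Subsingleton (Coh.HH Y ((Scheme.Modules.pullback ι).obj (Twist.twistProjSpace 7 k 1)) 1) ∧
      Function.Surjective (((Scheme.Modules.pullbackPushforwardAdjunction ι).unit.app
        (Twist.twistProjSpace 7 k 1)).val.app (op ⊤)) := by
  classical
  obtain ⟨h, hh⟩ := ElAct.exists_embedding k p 15
  let sc : G.{u} p → k := fun g => h (Multiplicative.toAdd g.down)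
  have hmul : ∀ g g', sc (g * g') = sc g + sc g' := fun g g' => map_add h _ _
  have hinj : ∀ g, sc g = 0 → g = 1 := fun g hg => by
    apply ULift.ext
    exact Multiplicative.toAdd.injective (hh (hg.trans (map_zero h).symm))
  let e : Fin 4 ⊕ Fin 4 ≃ Fin (7 + 1) := finSumFinEquiv
  have hcard : 1 ≤ Fintype.card (G.{u} p) := Fintype.card_pos
  obtain ⟨F, hF, hFD, hsm⟩ := InvCI.exists_ci (r := 7) (d := 2 * Fintype.card (G.{u} p)) (ElAct.τ (k := k) e sc hmul)
    (by omega) (fun l => (ZpAct.b e l : Form _ k 1)) (ElAct.free e sc hmul hinj) 4 (by omega)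
    (ElAct.E e sc) (ElAct.E_mem e sc hmul) (4 * (2 * Fintype.card (G.{u} p)) + 1) (ElAct.mem_idl e sc)
  have hsm' : SmoothOfRelativeDimension 3 (Act.yStr F) := hsm
  let _ : (Act.Y F).Over (Spec (CommRingCat.of k)) := ⟨Act.yStr F⟩
  have ha : ∀ j : Fin 4, 1 ≤ (fun _ : Fin 4 => 2 * Fintype.card (G.{u} p)) j := fun _ => by
    change 1 ≤ 2 * Fintype.card (G.{u} p)
    omega
  have hI0 := Sga67.TensorOps.isExtPow_zero (Omega.sheaf (Act.yStr F))
  have h0 : Module.finrank k (Coh.HH (Act.Y F) (Coh.structureModule (Act.Y F)) 0) = 1 :=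
    S4041.result k 3 4 (by omega) (fun _ => 2 * Fintype.card (G.{u} p)) ha F rfl 0 (by omega) (by omega) _ hI0
  have hvan : ∀ i, 0 < i → i < 3 → Subsingleton (Coh.HH (Act.Y F) (Coh.structureModule (Act.Y F)) i) :=
    fun i h1 h2 => S4040.result k 3 4 (by omega) (fun _ => 2 * Fintype.card (G.{u} p)) ha F 0 _ hI0 i (by omega) (by omega)
  have hsmY : Smooth (Act.yStr F) := SmoothOfRelativeDimension.smooth 3 _
  have hconn : ConnectedSpace (Act.Y F) := K898.HZeroOne.connectedSpace_of_finrank k _ h0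
  have hint : IsIntegral (Act.Y F) := K486.CompTop.isIntegral_of_connected (Act.yStr F)
  have hfree : FreeQuotSch.IsFree (Act.ρ (ElAct.τ (k := k) e sc hmul) hF) := fun K _ _ ξ g hξ =>
    Act.free (ElAct.τ (k := k) e sc hmul) hF (fun l => (ZpAct.b e l : Form _ k 1)) (ElAct.free e sc hmul hinj) _ hFD K ξ g hξ
  obtain ⟨Z, q, g, hqg, hq, het, hfin, hsurj, hsmZ, hintZ, hprop, M, j, hj, hjq⟩ :=
    QuotZ.exists_quot (Act.yStr F) 3 ⟨_, Act.yι F, inferInstance, rfl⟩ (Act.ρ (ElAct.τ (k := k) e sc hmul) hF)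
      (Act.ρ_str _ hF) hfree
  have hdim : topologicalKrullDim ↥(ciIdeal F).subscheme = ((7 - 4 : ℕ) : WithBot ℕ∞) :=
    Sga4B.RelCurveFibre.topologicalKrullDim_eq (Act.yStr F) 3
  refine ⟨Act.Y F, Z, Act.yι F, g, q, Act.ρ (ElAct.τ (k := k) e sc hmul) hF, hqg, hfin, het, hsurj, hint, hintZ, hsm',
    hsmZ, ⟨M, j, hj, hjq⟩, inferInstance, hq, fun γ => ⟨autHom (ElAct.τ e sc hmul γ), inferInstance, autHom_toSpec _,
      Act.ρ_ι _ hF γ⟩, hfree, hvan 1 (by omega) (by omega), hvan 2 (by omega) (by omega), ?_, ?_⟩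
  · exact S14332.result k 7 4 (by omega) _ ha F hdim 1 1 (by omega) (by omega)
  · exact S14333.result k 7 4 (by omega) _ ha F hdim (by omega) 1

end K934.NLift
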