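import Groth.Agent.Lift.K934.GS
import Groth.Agent.S16276
import Groth.Agent.S8733
import Groth.Agent.S9816
import Groth.Agent.Dual.H366.ExtQCoh
import Groth.Agent.HodgeNum.K882.Coho
import Groth.Agent.Fdesc.GeomAlgClosed
import Groth.Agent.VarietyA.EllNonsing
import Groth.Agent.IntTh.K711.ProjDim
import Groth.Agent.Sga5.ProjSmooth
import Groth.Agent.CalgB.ProjField
import Groth.Agent.VarietyA.CurveFin
import Mathlib.RingTheory.PowerSeries.Basic

/-!
# Outer Hodge numbers modulo `m`: products, projective spaces, Godeaux–Serre varieties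
-/

set_option autoImplicit false
universe u

open CategoryTheory CategoryTheory.Limits AlgebraicGeometry Opposite

namespace K934.Outer

open Groth.Agent

variable (k : Type u) [Field k] (m : ℕ)

/-- Smooth projective varieties of dimension `r`. -/
structure IsVar (r : ℕ) (X : Scheme.{u}) [X.Over (Spec (CommRingCat.of k))] : Prop where
  int : IsIntegral X
  smooth : SmoothOfRelativeDimension r (X ↘ Spec (CommRingCat.of k))
  proj : ∃ (N : ℕ) (ι : X ⟶ CohB1.ProjSpace N k), IsClosedImmersion ι ∧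
    ι ≫ CohB1.ProjSpace.toSpec N k = X ↘ Spec (CommRingCat.of k)

/-- The outer Hodge numbers modulo `m`. -/
structure Nums (X : Scheme.{u}) [X.Over (Spec (CommRingCat.of k))] (P Q : PowerSeries (ZMod m)) : Prop where
  left : ∀ (i : ℕ) (E : X.Modules), ExtPow.IsExtPow i (Omega.sheaf (X ↘ Spec (CommRingCat.of k))) E →
    ((Module.finrank k (Coh.HH X E 0) : ℕ) : ZMod m) = PowerSeries.coeff i P
  right : ∀ i : ℕ, ((Module.finrank k (Coh.HH X (Coh.structureModule X) i) : ℕ) : ZMod m) = PowerSeries.coeff i Q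

/-- Some variety of dimension `r` has these numbers. -/
def Rz (r : ℕ) (P Q : PowerSeries (ZMod m)) : Prop :=
  ∃ (X : Scheme.{u}) (_ : X.Over (Spec (CommRingCat.of k))), IsVar k r X ∧ Nums k m X P Q

variable {k m}

theorem isProper {r : ℕ} {X : Scheme.{u}} [X.Over (Spec (CommRingCat.of k))] (hX : IsVar k r X) :
    IsProper (X ↘ Spec (CommRingCat.of k)) := by
  obtain ⟨N, ι, hι, h⟩ := hX.proj
  have := Ega3B.ProjProper.isProper_toSpec N k
  rw [← h]
  infer_instance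

theorem isQCoh_omega {X : Scheme.{u}} (f : X ⟶ Spec (CommRingCat.of k)) [QuasiSeparated f] :
    Coh.IsQCoh (Omega.sheaf f) :=
  K583.UnivAffine.isQuasicoherent_of_isUniversal (K136.UnivOmega.isUniversal_dOmega f)

variable (m) in
theorem exists_nums {r : ℕ} {X : Scheme.{u}} [X.Over (Spec (CommRingCat.of k))] (hX : IsVar k r X) :
    ∃ P Q : PowerSeries (ZMod m), Nums k m X P Q := by
  have hp := isProper hX
  have hq := isQCoh_omega (X ↘ Spec (CommRingCat.of k))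
  choose E hE using fun i => Dual.H366.ExtQCoh.exists_isExtPow i hq
  refine ⟨PowerSeries.mk fun i => ((Module.finrank k (Coh.HH X (E i) 0) : ℕ) : ZMod m),
    PowerSeries.mk fun i => ((Module.finrank k (Coh.HH X (Coh.structureModule X) i) : ℕ) : ZMod m),
    fun i E' hE' => ?_, fun i => ?_⟩
  · rw [PowerSeries.coeff_mk]
    have e := Sga67.TensorOps.nonempty_iso_of_isExtPow (Iso.refl _) hE' (hE i)
    congr 1
    exact K882.Coho.hd_iso (k := k) e 0
  · rw [PowerSeries.coeff_mk]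

/-! ### Products -/

section Prod

variable {X₁ X₂ : Scheme.{u}} [X₁.Over (Spec (CommRingCat.of k))] [X₂.Over (Spec (CommRingCat.of k))]

theorem isVar_prod [IsAlgClosed k] {r₁ r₂ : ℕ} (h₁ : IsVar k r₁ X₁) (h₂ : IsVar k r₂ X₂)
    [hO : (pullback (X₁ ↘ Spec (CommRingCat.of k)) (X₂ ↘ Spec (CommRingCat.of k))).Over (Spec (CommRingCat.of k))]
    (hover : pullback (X₁ ↘ Spec (CommRingCat.of k)) (X₂ ↘ Spec (CommRingCat.of k)) ↘ Spec (CommRingCat.of k) =
      pullback.fst (X₁ ↘ Spec (CommRingCat.of k)) (X₂ ↘ Spec (CommRingCat.of k)) ≫ (X₁ ↘ Spec (CommRingCat.of k))) :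
    IsVar k (r₁ + r₂) (pullback (X₁ ↘ Spec (CommRingCat.of k)) (X₂ ↘ Spec (CommRingCat.of k))) := by
  have i1 := h₁.int
  have i2 := h₂.int
  have s1 := h₁.smooth
  have s2 := h₂.smooth
  have s1' : Smooth (X₁ ↘ Spec (CommRingCat.of k)) := SmoothOfRelativeDimension.smooth r₁ _
  have s2' : Smooth (X₂ ↘ Spec (CommRingCat.of k)) := SmoothOfRelativeDimension.smooth r₂ _
  have g1 := Fdesc.GeomAlgClosed.geometricallyIrreducible_of_irreducibleSpace (X₁ ↘ Spec (CommRingCat.of k))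
  have g2 := Fdesc.GeomAlgClosed.geometricallyIrreducible_of_irreducibleSpace (X₂ ↘ Spec (CommRingCat.of k))
  have hp1 := isProper h₁
  have hp2 := isProper h₂
  refine ⟨VarietyA.EllNonsing.isIntegral_pullback _ _, ?_, ?_⟩
  · rw [hover, add_comm]
    have i1 : SmoothOfRelativeDimension r₂ (pullback.fst (X₁ ↘ Spec (CommRingCat.of k)) (X₂ ↘ Spec (CommRingCat.of k))) :=
      (smoothOfRelativeDimension_isStableUnderBaseChange.{u} r₂).of_isPullback
        (IsPullback.of_hasPullback (X₁ ↘ Spec (CommRingCat.of k)) (X₂ ↘ Spec (CommRingCat.of k))).flip s2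
    exact smoothOfRelativeDimension_comp _ _ _ _
  · have hpr : IsProper (pullback (X₁ ↘ Spec (CommRingCat.of k)) (X₂ ↘ Spec (CommRingCat.of k)) ↘ Spec (CommRingCat.of k)) := by
      rw [hover]; infer_instance
    refine CalgB.ProjField.exists_closedImmersion_projSpace _ ?_
    have hA : ∀ {X : Scheme.{u}} [X.Over (Spec (CommRingCat.of k))] {r : ℕ} (h : IsVar k r X),
        ∃ L : X.Modules, CohB1.IsAmple L := fun {X} _ {r} h => by
      obtain ⟨N, ι, hι, hf⟩ := h.proj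
      have h1 := (CalgB.ProjImm.closedImmersion_iff (CalgB.ProjField.exists_isAmple_of_isAffine _)
          (X ↘ Spec (CommRingCat.of k))).1
        ⟨N, ι ≫ (CohqB.ProjBC.projSpaceOverIso N k).inv, inferInstance, by
          rw [Category.assoc, ← hf, ← CohqB.ProjBC.projSpaceOverIso_hom_toSpec, Iso.inv_hom_id_assoc]⟩
      exact h1.2
    obtain ⟨L₁, hL₁⟩ := hA h₁
    obtain ⟨L₂, hL₂⟩ := hA h₂
    exact ⟨_, S9816.result (X₁ ↘ Spec (CommRingCat.of k)) (X₂ ↘ Spec (CommRingCat.of k)) L₁ L₂ hL₁ hL₂⟩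

theorem nums_prod [IsAlgClosed k] (pc : ℕ) [Fact pc.Prime] [CharP k pc] {r₁ r₂ : ℕ} (h₁ : IsVar k r₁ X₁)
    (h₂ : IsVar k r₂ X₂)
    [hO : (pullback (X₁ ↘ Spec (CommRingCat.of k)) (X₂ ↘ Spec (CommRingCat.of k))).Over (Spec (CommRingCat.of k))]
    (hover : pullback (X₁ ↘ Spec (CommRingCat.of k)) (X₂ ↘ Spec (CommRingCat.of k)) ↘ Spec (CommRingCat.of k) =
      pullback.fst (X₁ ↘ Spec (CommRingCat.of k)) (X₂ ↘ Spec (CommRingCat.of k)) ≫ (X₁ ↘ Spec (CommRingCat.of k)))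
    {P₁ Q₁ P₂ Q₂ : PowerSeries (ZMod m)} (n₁ : Nums k m X₁ P₁ Q₁) (n₂ : Nums k m X₂ P₂ Q₂) :
    Nums k m (pullback (X₁ ↘ Spec (CommRingCat.of k)) (X₂ ↘ Spec (CommRingCat.of k))) (P₁ * P₂) (Q₁ * Q₂) := by
  have i1 := h₁.int
  have i2 := h₂.int
  have s1 := h₁.smooth
  have s2 := h₂.smooth
  have s1' : Smooth (X₁ ↘ Spec (CommRingCat.of k)) := SmoothOfRelativeDimension.smooth r₁ _
  have s2' : Smooth (X₂ ↘ Spec (CommRingCat.of k)) := SmoothOfRelativeDimension.smooth r₂ _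
  obtain ⟨N₁, ι₁, hι₁, hf₁⟩ := h₁.proj
  obtain ⟨N₂, ι₂, hι₂, hf₂⟩ := h₂.proj
  have hp1 := isProper h₁
  have hp2 := isProper h₂
  have hq1 := isQCoh_omega (X₁ ↘ Spec (CommRingCat.of k))
  have hq2 := isQCoh_omega (X₂ ↘ Spec (CommRingCat.of k))
  choose E₁ hE₁ using fun i => Dual.H366.ExtQCoh.exists_isExtPow i hq1
  choose E₂ hE₂ using fun i => Dual.H366.ExtQCoh.exists_isExtPow i hq2
  have K := S16276.result k pc N₁ N₂ X₁ X₂ ι₁ hf₁ ι₂ hf₂ hover E₁ hE₁ E₂ hE₂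
  refine ⟨fun i E hE => ?_, fun i => ?_⟩
  · rw [K i 0 E hE, PowerSeries.coeff_mul, Finset.Nat.sum_antidiagonal_eq_sum_range_succ_mk]
    push_cast
    refine Finset.sum_congr rfl fun j _ => ?_
    rw [Finset.sum_range_one, n₁.left j _ (hE₁ j)]
    congr 1
    exact n₂.left (i - j) _ (hE₂ (i - j))
  · have h0 := Sga67.TensorOps.isExtPow_zero
      (Omega.sheaf (pullback (X₁ ↘ Spec (CommRingCat.of k)) (X₂ ↘ Spec (CommRingCat.of k)) ↘ Spec (CommRingCat.of k)))
    have e1 := Sga67.TensorOps.nonempty_iso_of_isExtPow (Iso.refl _) (hE₁ 0)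
      (Sga67.TensorOps.isExtPow_zero (Omega.sheaf (X₁ ↘ Spec (CommRingCat.of k))))
    have e2 := Sga67.TensorOps.nonempty_iso_of_isExtPow (Iso.refl _) (hE₂ 0)
      (Sga67.TensorOps.isExtPow_zero (Omega.sheaf (X₂ ↘ Spec (CommRingCat.of k))))
    rw [K 0 i _ h0, PowerSeries.coeff_mul, Finset.Nat.sum_antidiagonal_eq_sum_range_succ_mk]
    push_cast
    rw [Finset.sum_range_one]
    refine Finset.sum_congr rfl fun j _ => ?_
    rw [← n₁.right j, ← n₂.right (i - j)]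
    have a1 := K882.Coho.hd_iso (k := k) e1 j
    have a2 := K882.Coho.hd_iso (k := k) e2 (i - j)
    unfold K882.Coho.hd at a1 a2
    rw [a1, a2]

end Prod

theorem Rz.mul [IsAlgClosed k] (pc : ℕ) [Fact pc.Prime] [CharP k pc] {r₁ r₂ : ℕ}
    {P₁ Q₁ P₂ Q₂ : PowerSeries (ZMod m)} (h₁ : Rz k m r₁ P₁ Q₁) (h₂ : Rz k m r₂ P₂ Q₂) :
    Rz k m (r₁ + r₂) (P₁ * P₂) (Q₁ * Q₂) := by
  obtain ⟨X₁, _, v₁, n₁⟩ := h₁
  obtain ⟨X₂, _, v₂, n₂⟩ := h₂
  let hO : (pullback (X₁ ↘ Spec (CommRingCat.of k)) (X₂ ↘ Spec (CommRingCat.of k))).Over (Spec (CommRingCat.of k)) :=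
    ⟨pullback.fst (X₁ ↘ Spec (CommRingCat.of k)) (X₂ ↘ Spec (CommRingCat.of k)) ≫ (X₁ ↘ Spec (CommRingCat.of k))⟩
  exact ⟨_, hO, isVar_prod v₁ v₂ rfl, nums_prod pc v₁ v₂ rfl n₁ n₂⟩

/-! ### Projective space -/

theorem rz_proj (r : ℕ) (hr : 1 ≤ r) : Rz k m r 1 1 := by
  refine ⟨CohB1.ProjSpace r k, ⟨CohB1.ProjSpace.toSpec r k⟩,
    ⟨K711.ProjDim.isIntegral_projSpace r k, inferInstanceAs (SmoothOfRelativeDimension r (CohB1.ProjSpace.toSpec r k)),
      r, 𝟙 _, inferInstance, Category.id_comp _⟩, fun i E hE => ?_, fun i => ?_⟩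
  · obtain ⟨h1, h2⟩ := S8733.result k r hr i E hE
    rw [PowerSeries.coeff_one]
    split_ifs with hi
    · subst hi
      have h3 := h2 (Nat.zero_le r)
      exact (congrArg (fun z : ℕ => (z : ZMod m)) h3).trans Nat.cast_one
    · have := h1 0 (Or.inl (Ne.symm hi))
      exact (congrArg (fun z : ℕ => (z : ZMod m)) (Module.finrank_zero_of_subsingleton (R := k)
        (M := Coh.HH (CohB1.ProjSpace r k) E 0))).trans Nat.cast_zero
  · obtain ⟨h1, h2⟩ := S8733.result k r hr 0 _ (Sga67.TensorOps.isExtPow_zero (Omega.sheaf (CohB1.ProjSpace.toSpec r k)))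
    rw [PowerSeries.coeff_one]
    split_ifs with hi
    · subst hi
      have h3 := h2 (Nat.zero_le r)
      exact (congrArg (fun z : ℕ => (z : ZMod m)) h3).trans Nat.cast_one
    · have := h1 i (Or.inl hi)
      exact (congrArg (fun z : ℕ => (z : ZMod m)) (Module.finrank_zero_of_subsingleton (R := k)
        (M := Coh.HH (CohB1.ProjSpace r k) (Coh.structureModule (CohB1.ProjSpace r k)) i))).trans Nat.cast_zero

/-! ### Godeaux–Serre varieties -/

theorem rz_gs [IsAlgClosed k] (pc : ℕ) [Fact pc.Prime] [CharP k pc] (D : ℕ) (hD : 1 ≤ D) :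
    ∃ P Q : PowerSeries (ZMod m), Rz k m D P Q ∧ (∀ i, 0 < i → i < D → PowerSeries.coeff i P = 0) ∧
      ∀ i, i < D → PowerSeries.coeff i Q = 1 := by
  obtain ⟨Z, hZ, N, ι, h1, h2, h3, h4, h5, h6⟩ := GS.exists_variety k pc D hD
  have hv : IsVar k D Z := ⟨h1, h2, N, ι, h3, h4⟩
  obtain ⟨P, Q, hN⟩ := exists_nums m hv
  have hp := isProper hv
  refine ⟨P, Q, ⟨Z, hZ, hv, hN⟩, fun i i1 i2 => ?_, fun i hi => ?_⟩
  · obtain ⟨E, hE⟩ := Dual.H366.ExtQCoh.exists_isExtPow i (isQCoh_omega (Z ↘ Spec (CommRingCat.of k)))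
    have := h6 i i1 i2 E hE
    rw [← hN.left i E hE, Module.finrank_zero_of_subsingleton, Nat.cast_zero]
  · rw [← hN.right i, h5 i hi, Nat.cast_one]

theorem rz_zero [IsAlgClosed k] {r : ℕ} {P Q : PowerSeries (ZMod m)} (h : Rz k m r P Q) :
    PowerSeries.coeff 0 P = 1 ∧ PowerSeries.coeff 0 Q = 1 := by
  obtain ⟨X, _, hv, hN⟩ := h
  have := hv.int
  have hp := isProper hv
  have h0 := VarietyA.CurveFin.finrank_h0_structure k X
  rw [← hN.left 0 _ (Sga67.TensorOps.isExtPow_zero _), ← hN.right 0, h0]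
  exact ⟨Nat.cast_one, Nat.cast_one⟩

end K934.Outer
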