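import Mathlib.RingTheory.PowerSeries.Basic
import Mathlib.Data.ZMod.Basic
import Mathlib.Algebra.Field.GeomSum
import Mathlib.RingTheory.Ideal.Quotient.Basic
import Mathlib.Tactic.LinearCombination

/-!
# Pairs of power series modulo `m` closed under products and "cuts"
-/

set_option autoImplicit false

open PowerSeries

namespace K934.PSer

variable {m : ℕ}

/-- Reduction modulo `X^(d+1)`. -/
noncomputable abbrev q (m d : ℕ) : PowerSeries (ZMod m) →+* PowerSeries (ZMod m) ⧸ Ideal.span {(X : PowerSeries (ZMod m)) ^ (d + 1)} :=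
  Ideal.Quotient.mk _

theorem q_eq_iff {d : ℕ} {P Q : PowerSeries (ZMod m)} :
    q m d P = q m d Q ↔ ∀ i, i ≤ d → coeff i P = coeff i Q := by
  rw [Ideal.Quotient.eq, Ideal.mem_span_singleton, X_pow_dvd_iff]
  constructor
  · intro h i hi
    have := h i (by omega)
    rwa [map_sub, sub_eq_zero] at this
  · intro h i hi
    rw [map_sub, h i (by omega), sub_self]

/-- `X^d` modulo `X^(d+1)`. -/
noncomputable abbrev ε (m d : ℕ) : PowerSeries (ZMod m) ⧸ Ideal.span {(X : PowerSeries (ZMod m)) ^ (d + 1)} := q m d (X ^ d)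

theorem mul_ε {d : ℕ} (P : PowerSeries (ZMod m)) : q m d P * ε m d = q m d (C (coeff 0 P)) * ε m d := by
  rw [← map_mul, ← map_mul, Ideal.Quotient.eq, Ideal.mem_span_singleton, ← sub_mul, pow_succ', mul_comm (X : PowerSeries (ZMod m))]
  rw [mul_comm (P - C (coeff 0 P))]
  refine mul_dvd_mul_left _ ?_
  rw [X_dvd_iff]
  simp

theorem ε_mul_ε {d : ℕ} (hd : 1 ≤ d) : ε m d * ε m d = 0 := by
  rw [mul_ε, coeff_X_pow, if_neg (by omega), map_zero, map_zero, zero_mul]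

theorem pow_eq_one {P : PowerSeries (ZMod m)} (hP : coeff 0 P = 1) (d : ℕ) : q m d (P ^ (m ^ d)) = 1 := by
  have h1 : ∀ n : ℕ, constantCoeff (P ^ n) = 1 := fun n => by
    rw [map_pow, ← coeff_zero_eq_constantCoeff_apply, hP, one_pow]
  suffices h : (X : PowerSeries (ZMod m)) ^ (d + 1) ∣ P ^ (m ^ d) - 1 by
    rw [← map_one (q m d), Ideal.Quotient.eq, Ideal.mem_span_singleton]
    exact h
  induction d with
  | zero =>
    rw [zero_add, pow_one, pow_zero, X_dvd_iff, map_sub, map_one, h1, sub_self]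
  | succ d ih =>
    rw [pow_succ m d, pow_mul, ← mul_geom_sum, pow_succ (X : PowerSeries (ZMod m)) (d + 1)]
    refine mul_dvd_mul ih ?_
    rw [X_dvd_iff, map_sum]
    simp only [← pow_mul, h1]
    rw [Finset.sum_const, Finset.card_range, nsmul_eq_mul, ZMod.natCast_self, zero_mul]

variable (R : ℕ → PowerSeries (ZMod m) → PowerSeries (ZMod m) → Prop)

/-- The assumptions. -/
structure Hyp : Prop where
  mul : ∀ {r₁ r₂ : ℕ} {P₁ Q₁ P₂ Q₂ : PowerSeries (ZMod m)}, R r₁ P₁ Q₁ → R r₂ P₂ Q₂ → R (r₁ + r₂) (P₁ * P₂) (Q₁ * Q₂)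
  proj : ∀ r, 1 ≤ r → R r 1 1
  gs : ∀ D, 1 ≤ D → ∃ P Q, R D P Q ∧ (∀ i, 0 < i → i < D → coeff i P = 0) ∧ ∀ i, i < D → coeff i Q = 1
  zero : ∀ {r : ℕ} {P Q : PowerSeries (ZMod m)}, R r P Q → coeff 0 P = 1 ∧ coeff 0 Q = 1
  cut : ∀ {n : ℕ} {P Q : PowerSeries (ZMod m)}, 1 ≤ n → R (n + 1) P Q → ∀ c : ZMod m, ∃ P' Q', R n P' Q' ∧
    (∀ i, i < n → coeff i P' = coeff i P ∧ coeff i Q' = coeff i Q) ∧ coeff n P' = c ∧ coeff n Q' = c

variable {R} (H : Hyp R)
include H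

theorem pow_mem {r : ℕ} {P Q : PowerSeries (ZMod m)} (h : R r P Q) (n : ℕ) (hn : 1 ≤ n) : ∃ r', R r' (P ^ n) (Q ^ n) := by
  induction n, hn using Nat.le_induction with
  | base => exact ⟨r, by simpa using h⟩
  | succ n _ ih =>
    obtain ⟨r', h'⟩ := ih
    exact ⟨r' + r, by simpa [pow_succ] using H.mul h' h⟩

/-- `(c, c)`. -/
theorem diag (d : ℕ) (hd : 1 ≤ d) (c : ZMod m) : ∃ r P Q, R r P Q ∧ q m d P = 1 + q m d (C c) * ε m d ∧
    q m d Q = 1 + q m d (C c) * ε m d := by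
  obtain ⟨P, Q, h, h1, h2, h3⟩ := H.cut hd (H.proj (d + 1) (by omega)) c
  have key : ∀ S : PowerSeries (ZMod m), (∀ i, i < d → coeff i S = coeff i 1) → coeff d S = c →
      q m d S = 1 + q m d (C c) * ε m d := by
    intro S hS hSd
    rw [← map_one (q m d), ← map_mul, ← map_add, q_eq_iff]
    intro i hi
    rcases hi.lt_or_eq with hi | rfl
    · rw [hS i hi, map_add, coeff_C_mul, coeff_X_pow, if_neg (by omega), mul_zero, add_zero]
    · rw [hSd, map_add, coeff_C_mul, coeff_X_pow, if_pos rfl, mul_one, coeff_one, if_neg (by omega), zero_add]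
  exact ⟨d, P, Q, h, key P (fun i hi => (h1 i hi).1) h2, key Q (fun i hi => (h1 i hi).2) h3⟩

/-- `(0, 1)`. -/
theorem off (hm : 2 ≤ m) (d : ℕ) (hd : 1 ≤ d) : ∃ r P Q, R r P Q ∧ q m d P = 1 ∧ q m d Q = 1 + ε m d := by
  obtain ⟨P, Q, h, hP, hQ⟩ := H.gs (d + 1) (by omega)
  obtain ⟨P', Q', h', h1, h2, h3⟩ := H.cut hd h 0
  obtain ⟨z1, z2⟩ := H.zero h
  obtain ⟨z1', z2'⟩ := H.zero h'
  have hK : 2 ≤ m ^ d := hm.trans (Nat.le_self_pow (by omega) m)
  obtain ⟨r', hr'⟩ := pow_mem H h' (m ^ d - 1) (by omega)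
  refine ⟨_, _, _, H.mul h hr', ?_, ?_⟩
  · have e1 : q m d P = 1 := by
      rw [← map_one (q m d), q_eq_iff]
      intro i hi
      rcases Nat.eq_zero_or_pos i with rfl | hi'
      · rw [z1]; simp
      · rw [hP i hi' (by omega), coeff_one, if_neg (by omega)]
    have e2 : q m d P' = 1 := by
      rw [← map_one (q m d), q_eq_iff]
      intro i hi
      rcases Nat.eq_zero_or_pos i with rfl | hi'
      · rw [z1']; simp
      · rw [coeff_one, if_neg (by omega)]
        rcases hi.lt_or_eq with hi | rfl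
        · rw [(h1 i hi).1, hP i hi' (by omega)]
        · exact h2
    rw [map_mul, map_pow, e1, e2, one_pow, one_mul]
  · have e1 : q m d Q = q m d Q' + ε m d := by
      rw [← map_add, q_eq_iff]
      intro i hi
      rcases hi.lt_or_eq with hi | rfl
      · rw [map_add, (h1 i hi).2, coeff_X_pow, if_neg (by omega), add_zero]
      · rw [map_add, h3, hQ _ (by omega), coeff_X_pow, if_pos rfl, zero_add]
    have e2 := pow_eq_one (m := m) z2' d
    have e3 : q m d (Q' ^ (m ^ d - 1)) * ε m d = ε m d := by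
      have h4 : constantCoeff Q' = 1 := by rw [← coeff_zero_eq_constantCoeff_apply, z2']
      rw [mul_ε, coeff_zero_eq_constantCoeff_apply, map_pow, h4, one_pow, map_one, map_one, one_mul]
    have e4 : Q' ^ (m ^ d) = Q' * Q' ^ (m ^ d - 1) := by
      rw [← pow_succ', Nat.sub_add_cancel (by omega)]
    rw [map_mul, e1, add_mul, ← map_mul, ← e4, e2, mul_comm (ε m d), e3]

/-- All pairs `(x, y)` in degree `d`. -/
theorem pair (hm : 2 ≤ m) (d : ℕ) (hd : 1 ≤ d) (x y : ZMod m) : ∃ r P Q, R r P Q ∧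
    q m d P = 1 + q m d (C x) * ε m d ∧ q m d Q = 1 + q m d (C y) * ε m d := by
  obtain ⟨r₁, P₁, Q₁, h₁, hP₁, hQ₁⟩ := diag H d hd x
  obtain ⟨r₂, P₂, Q₂, h₂, hP₂, hQ₂⟩ := off H hm d hd
  have : NeZero m := ⟨by omega⟩
  -- powers of the second
  have hpow : ∀ n : ℕ, (1 + ε m d) ^ n = 1 + (n : PowerSeries (ZMod m) ⧸ Ideal.span {(X : PowerSeries (ZMod m)) ^ (d + 1)}) * ε m d := by
    intro n
    induction n with
    | zero => simp
    | succ n ih =>
      rw [pow_succ (1 + ε m d) n, ih, Nat.cast_succ]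
      linear_combination (n : PowerSeries (ZMod m) ⧸ Ideal.span {(X : PowerSeries (ZMod m)) ^ (d + 1)}) * ε_mul_ε (m := m) hd
  obtain ⟨r₃, h₃⟩ := pow_mem H h₂ ((y - x).val + m) (by omega)
  refine ⟨_, _, _, H.mul h₁ h₃, ?_, ?_⟩
  · rw [map_mul, map_pow, hP₁, hP₂, one_pow, mul_one]
  · rw [map_mul, map_pow, hQ₁, hQ₂, hpow]
    have h4 : (((y - x).val + m : ℕ) : PowerSeries (ZMod m) ⧸ Ideal.span {(X : PowerSeries (ZMod m)) ^ (d + 1)}) =
        q m d (C (y - x)) := by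
      have h5 : y - x = (((y - x).val + m : ℕ) : ZMod m) := by
        push_cast
        rw [ZMod.natCast_zmod_val, ZMod.natCast_self, add_zero]
      conv_rhs => rw [h5]
      rw [map_natCast, map_natCast]
    rw [h4, map_sub, map_sub]
    linear_combination (q m d (C x)) * (q m d (C y) - q m d (C x)) * ε_mul_ε (m := m) hd

theorem all (hm : 2 ≤ m) (n : ℕ) (α β : ℕ → ZMod m) : ∃ r P Q, 1 ≤ r ∧ R r P Q ∧
    ∀ i, 1 ≤ i → i ≤ n → coeff i P = α i ∧ coeff i Q = β i := by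
  induction n with
  | zero => exact ⟨1, 1, 1, le_rfl, H.proj 1 le_rfl, fun i h1 h2 => by omega⟩
  | succ n ih =>
    obtain ⟨r, P, Q, hr, h, hi⟩ := ih
    obtain ⟨r', P', Q', h', hP', hQ'⟩ := pair H hm (n + 1) (by omega) (α (n + 1) - coeff (n + 1) P) (β (n + 1) - coeff (n + 1) Q)
    obtain ⟨z1, z2⟩ := H.zero h
    refine ⟨_, _, _, by omega, H.mul h h', fun i h1 h2 => ?_⟩
    have key : ∀ (S S' : PowerSeries (ZMod m)) (γ : ZMod m), coeff 0 S = 1 →
        q m (n + 1) S' = 1 + q m (n + 1) (C (γ - coeff (n + 1) S)) * ε m (n + 1) →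
        (∀ i, i ≤ n → coeff i (S * S') = coeff i S) ∧ coeff (n + 1) (S * S') = γ := by
      intro S S' γ hS hS'
      have e : q m (n + 1) (S * S') = q m (n + 1) (S + C (γ - coeff (n + 1) S) * X ^ (n + 1)) := by
        rw [map_mul, hS', mul_add, mul_one, map_add, map_mul]
        congr 1
        have h5 := mul_ε (m := m) (d := n + 1) S
        rw [hS, map_one, map_one, one_mul] at h5
        rw [mul_left_comm, h5]
      rw [q_eq_iff] at e
      refine ⟨fun i hi => ?_, ?_⟩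
      · rw [e i (by omega), map_add, coeff_C_mul, coeff_X_pow, if_neg (by omega), mul_zero, add_zero]
      · rw [e _ le_rfl, map_add, coeff_C_mul, coeff_X_pow, if_pos rfl, mul_one]
        ring
    obtain ⟨k1, k2⟩ := key P P' _ z1 hP'
    obtain ⟨k3, k4⟩ := key Q Q' _ z2 hQ'
    rcases h2.lt_or_eq with h2 | rfl
    · rw [k1 i (by omega), k3 i (by omega)]
      exact hi i h1 (by omega)
    · exact ⟨k2, k4⟩

theorem down {n : ℕ} (l : ℕ) {P Q : PowerSeries (ZMod m)} (h : R (n + 1 + l) P Q) :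
    ∃ P' Q', R (n + 1) P' Q' ∧ ∀ i, i ≤ n → coeff i P' = coeff i P ∧ coeff i Q' = coeff i Q := by
  induction l generalizing P Q with
  | zero => exact ⟨P, Q, h, fun i _ => ⟨rfl, rfl⟩⟩
  | succ l ih =>
    obtain ⟨P', Q', h', h1, -, -⟩ := H.cut (n := n + 1 + l) (by omega) h 0
    obtain ⟨P'', Q'', h'', h2⟩ := ih h'
    exact ⟨P'', Q'', h'', fun i hi => ⟨(h2 i hi).1.trans (h1 i (by omega)).1, (h2 i hi).2.trans (h1 i (by omega)).2⟩⟩

theorem main (hm : 2 ≤ m) (n : ℕ) (hn : 1 ≤ n) (a b : ℕ → ZMod m) (hab : a n = b n) :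
    ∃ P Q, R n P Q ∧ ∀ i, 1 ≤ i → i ≤ n → coeff i P = a i ∧ coeff i Q = b i := by
  obtain ⟨r, P, Q, hr, h, hi⟩ := all H hm (n - 1) a b
  have h' := H.mul (H.proj (n + 1) (by omega)) h
  rw [one_mul, one_mul] at h'
  obtain ⟨P', Q', h1, h2⟩ := down H r h'
  obtain ⟨P'', Q'', h3, h4, h5, h6⟩ := H.cut hn h1 (a n)
  refine ⟨P'', Q'', h3, fun i i1 i2 => ?_⟩
  rcases i2.lt_or_eq with i2 | rfl
  · rw [(h4 i i2).1, (h4 i i2).2, (h2 i (by omega)).1, (h2 i (by omega)).2]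
    exact hi i i1 (by omega)
  · exact ⟨h5, h6.trans hab⟩

end K934.PSer
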