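import Groth.Agent.Lift.K934.CycTr
import Groth.Agent.Sga1.QuotAct
import Groth.Agent.Sga1.FreeQuotSch
import Groth.Agent.FormalB.TrSys
import Groth.Prelude.Def_ClSub2

/-!
# The two exact sequences of a free cyclic quotient

For `p : Y ⟶ Z` the quotient by a free action of a finite cyclic group:
`0 → O_Z → p_* O_Y → F → 0` and `0 → F → p_* O_Y → O_Z → 0`.
-/

set_option autoImplicit false
universe u

open CategoryTheory CategoryTheory.Limits AlgebraicGeometry Opposite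

namespace K934.TorsSeq

open Groth.Agent Groth.Agent.Sga1

variable {Y Z : Scheme.{u}} {G : Type u} [Group G] (ρ : G →* Aut Y) (p : Y ⟶ Z)

section Alg
variable {H R : Type*} [Group H] [Fintype H] [CommRing R] [MulSemiringAction H R]

theorem alg_smul_sum (s : H) (a : R) : s • (∑ g : H, g • a) = ∑ g : H, g • a := by
  rw [Finset.smul_sum]
  exact Fintype.sum_equiv (Equiv.mulLeft s) _ _ (fun g => by simp [mul_smul])

theorem alg_sum_sub (s : H) (a : R) : ∑ g : H, g • (s • a - a) = 0 := by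
  simp only [smul_sub, Finset.sum_sub_distrib, smul_smul]
  rw [sub_eq_zero]
  exact Fintype.sum_equiv (Equiv.mulRight s) _ _ (fun g => by simp)

theorem alg_sum_mul (a x : R) (ha : ∀ g : H, g • a = a) (hx : ∑ g : H, g • x = 1) :
    ∑ g : H, g • (a * x) = a := by
  simp only [smul_mul', ha]
  rw [← Finset.mul_sum, hx, mul_one]

end Alg

/-- The direct image of the structure sheaf. -/
noncomputable abbrev P : Z.Modules := (Scheme.Modules.pushforward p).obj (Coh.structureModule Y)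

variable (hinv : ∀ g, (ρ g).hom ≫ p = p)

theorem appLE_map_comm (f : Y ⟶ Y) {U V : Z.Opens} (i : V ≤ U) (eU : p ⁻¹ᵁ U ≤ f ⁻¹ᵁ (p ⁻¹ᵁ U))
    (eV : p ⁻¹ᵁ V ≤ f ⁻¹ᵁ (p ⁻¹ᵁ V)) (s : Γ(Y, p ⁻¹ᵁ U)) :
    (f.appLE (p ⁻¹ᵁ V) (p ⁻¹ᵁ V) eV).hom ((Y.presheaf.map (homOfLE (p.preimage_mono i)).op).hom s) =
      (Y.presheaf.map (homOfLE (p.preimage_mono i)).op).hom ((f.appLE (p ⁻¹ᵁ U) (p ⁻¹ᵁ U) eU).hom s) := by
  rw [← CommRingCat.comp_apply, ← CommRingCat.comp_apply, Scheme.Hom.map_appLE, Scheme.Hom.appLE_map]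

theorem act_lin (g : G) (U : Z.Opens) (r : Γ(Z, U)) (s : Γ(Y, p ⁻¹ᵁ U)) :
    ((ρ g⁻¹).hom.appLE (p ⁻¹ᵁ U) (p ⁻¹ᵁ U) (SGA1.preimage_le_of_inv ρ p hinv g⁻¹ U)).hom ((p.app U).hom r * s) =
      (p.app U).hom r * ((ρ g⁻¹).hom.appLE (p ⁻¹ᵁ U) (p ⁻¹ᵁ U) (SGA1.preimage_le_of_inv ρ p hinv g⁻¹ U)).hom s := by
  have h := QuotAct.smul_app hinv U g r
  rw [map_mul]
  congr 1

/-- The action of `g` on `p_* O_Y`. -/
noncomputable def gAct (g : G) : P p ⟶ P p :=
  ⟨PresheafOfModules.homMk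
    { app := fun U => AddCommGrpCat.ofHom ((((ρ g⁻¹).hom.appLE (p ⁻¹ᵁ U.unop) (p ⁻¹ᵁ U.unop)
        (SGA1.preimage_le_of_inv ρ p hinv g⁻¹ U.unop)).hom :
          Γ(Y, p ⁻¹ᵁ U.unop) →+* Γ(Y, p ⁻¹ᵁ U.unop)).toAddMonoidHom)
      naturality := fun U V i => by
        ext s
        exact appLE_map_comm p _ i.unop.le _ _ s }
    (fun U r s => act_lin ρ p hinv g U.unop r s)⟩

theorem gAct_app (g : G) (U : Z.Opens) (s : Γ(Y, p ⁻¹ᵁ U)) :
    letI := QuotAct.act ρ p hinv U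
    (gAct ρ p hinv g).app U s = g • s := rfl

theorem unit_app (U : Z.Opens) (a : Γ(Z, U)) : (ClSub.unitToPush p).app U a = (p.app U).hom a := rfl

variable {ρ p}

section Main

variable (hp : SGA1.IsQuot ρ p) (σ : G)

/-- `σ - 1`. -/
noncomputable def τ : P p ⟶ P p := gAct ρ p hp.inv σ - 𝟙 _

/-- The trace. -/
noncomputable def trP [Fintype G] : P p ⟶ P p := ∑ g : G, gAct ρ p hp.inv g

theorem τ_app (U : Z.Opens) (s : Γ(P p, U)) :
    letI := QuotAct.act ρ p hp.inv U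
    (τ hp σ).app U s = (show Γ(Y, p ⁻¹ᵁ U) from σ • (show Γ(Y, p ⁻¹ᵁ U) from s) - (show Γ(Y, p ⁻¹ᵁ U) from s)) := rfl

theorem sum_app {M N : Z.Modules} {ι : Type*} (T : Finset ι) (f : ι → (M ⟶ N)) (U : Z.Opens) (s : Γ(M, U)) :
    (∑ i ∈ T, f i).app U s = ∑ i ∈ T, (f i).app U s := by
  classical
  induction T using Finset.induction_on with
  | empty => rfl
  | insert a T ha ih =>
    rw [Finset.sum_insert ha, Finset.sum_insert ha, ← ih]
    rfl

theorem trP_app [Fintype G] (U : Z.Opens) (s : Γ(P p, U)) :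
    letI := QuotAct.act ρ p hp.inv U
    (trP hp).app U s = (show Γ(Y, p ⁻¹ᵁ U) from ∑ g : G, g • (show Γ(Y, p ⁻¹ᵁ U) from s)) :=
  sum_app _ _ U s

theorem unit_τ : ClSub.unitToPush p ≫ τ hp σ = 0 := by
  refine FormalB.SysSect.hom_eq_zero_of_affine _ fun U _ a => ?_
  let _ := QuotAct.act ρ p hp.inv U
  have h := QuotAct.smul_app hp.inv U σ a
  change (show Γ(Y, p ⁻¹ᵁ U) from σ • (p.app U).hom a) - (p.app U).hom a = 0
  rw [sub_eq_zero]
  exact h

theorem trP_τ [Fintype G] : trP hp ≫ τ hp σ = 0 := by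
  refine FormalB.SysSect.hom_eq_zero_of_affine _ fun U _ a => ?_
  let _ := QuotAct.act ρ p hp.inv U
  change (τ hp σ).app U ((trP hp).app U a) = 0
  refine (congrArg ((τ hp σ).app U) (trP_app hp U a)).trans ?_
  refine (τ_app hp σ U _).trans ?_
  refine sub_eq_zero.2 ?_
  exact alg_smul_sum (R := Γ(Y, p ⁻¹ᵁ U)) σ a

theorem τ_trP [Fintype G] : τ hp σ ≫ trP hp = 0 := by
  refine FormalB.SysSect.hom_eq_zero_of_affine _ fun U _ a => ?_
  let _ := QuotAct.act ρ p hp.inv U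
  change (trP hp).app U ((τ hp σ).app U a) = 0
  refine (trP_app hp U _).trans ?_
  exact alg_sum_sub (R := Γ(Y, p ⁻¹ᵁ U)) σ a

variable (hσ : ∀ g : G, g ∈ Subgroup.zpowers σ)

include hσ in
theorem exact_unit_τ : (ShortComplex.mk (ClSub.unitToPush p) (τ hp σ) (unit_τ hp σ)).Exact := by
  refine FormalB.TrSys.exact_of_affine _ _ _ fun U _ y hy => ?_
  let _ := QuotAct.act ρ p hp.inv U
  have hy' : σ • (show Γ(Y, p ⁻¹ᵁ U) from y) = y := sub_eq_zero.1 ((τ_app hp σ U y).symm.trans hy)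
  have h1 : ∀ g : G, g • (show Γ(Y, p ⁻¹ᵁ U) from y) = y := by
    intro g
    have h2 : Subgroup.zpowers σ ≤ MulAction.stabilizer G (show Γ(Y, p ⁻¹ᵁ U) from y) := by
      rw [Subgroup.zpowers_le]
      exact hy'
    exact h2 (hσ g)
  obtain ⟨x, hx⟩ := (QuotAct.mem_range_iff hp U y).2 h1
  exact ⟨x, hx⟩

include hp in
theorem mono_unit : Mono (ClSub.unitToPush p) := by
  refine FormalB.TrSys.mono_of_affine _ fun U _ x hx => ?_
  exact hp.injective U (by
    change (p.app U).hom x = (p.app U).hom 0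
    rw [map_zero]
    exact hx)

variable [Fintype G] (hfree : FreeQuotSch.IsFree ρ)

include hfree in
theorem exists_trace (U : Z.Opens) (hU : IsAffineOpen U) :
    letI := QuotAct.act ρ p hp.inv U
    ∃ x : Γ(Y, p ⁻¹ᵁ U), ∑ g : G, g • x = 1 := by
  let _ := QuotAct.act ρ p hp.inv U
  let := (p.app U).hom.toAlgebra
  have := QuotAct.isInvariant hp U
  have := QuotAct.smulCommClass hp.inv U
  have := hp.affine
  exact CycTr.exists_trace_one (A := Γ(Z, U)) (hp.injective U) (fun g hg M hM => hfree.exists_notMem p hp.inv U hU g hg M hM)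

include hσ hfree in
theorem exact_τ_trP : (ShortComplex.mk (τ hp σ) (trP hp) (τ_trP hp σ)).Exact := by
  refine FormalB.TrSys.exact_of_affine _ _ _ fun U hU y hy => ?_
  let _ := QuotAct.act ρ p hp.inv U
  have hy' : ∑ g : G, g • (show Γ(Y, p ⁻¹ᵁ U) from y) = 0 := (trP_app hp U y).symm.trans hy
  obtain ⟨x, hx⟩ := exists_trace hp hfree U hU
  rw [CycTr.sum_eq_sum_range σ hσ] at hy' hx
  obtain ⟨b, hb⟩ := CycTr.hilbert90 σ (Fintype.card G) (by rw [pow_card_eq_one]) x hx y hy'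
  exact ⟨b, hb⟩

/-- The trace to the structure sheaf. -/
noncomputable def t : P p ⟶ Coh.structureModule Z :=
  haveI := mono_unit hp
  (exact_unit_τ hp σ hσ).lift (trP hp) (trP_τ hp σ)

theorem t_unit : t hp σ hσ ≫ ClSub.unitToPush p = trP hp :=
  haveI := mono_unit hp
  (exact_unit_τ hp σ hσ).lift_f _ _

include hfree in
theorem epi_t : Epi (t hp σ hσ) := by
  refine FormalB.SysSect.epi_of_affine _ fun U hU a => ?_
  let _ := QuotAct.act ρ p hp.inv U
  obtain ⟨x, hx⟩ := exists_trace hp hfree U hU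
  refine ⟨(p.app U).hom a * x, ?_⟩
  have h1 : Function.Injective ((ClSub.unitToPush p).app U) := hp.injective U
  apply h1
  have h2 : (ClSub.unitToPush p).app U ((t hp σ hσ).app U ((p.app U).hom a * x)) =
      (trP hp).app U ((p.app U).hom a * x) := congr(($(t_unit hp σ hσ)).app U ((p.app U).hom a * x))
  refine h2.trans ((trP_app hp U _).trans ?_)
  exact alg_sum_mul (R := Γ(Y, p ⁻¹ᵁ U)) _ x (fun g => QuotAct.smul_app hp.inv U g a) hx

/-- The middle module. -/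
noncomputable def F (p : Y ⟶ Z) : Z.Modules := cokernel (ClSub.unitToPush p)

/-- The projection to it. -/
noncomputable def π (p : Y ⟶ Z) : P p ⟶ F p := cokernel.π _

/-- `F → p_* O_Y`. -/
noncomputable def j : F p ⟶ P p := cokernel.desc _ (τ hp σ) (unit_τ hp σ)

theorem π_j : π p ≫ j hp σ = τ hp σ := cokernel.π_desc _ _ _

theorem j_t : j hp σ ≫ t hp σ hσ = 0 := by
  have := mono_unit hp
  rw [← cancel_mono (ClSub.unitToPush p), Category.assoc, t_unit, zero_comp]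
  have h1 : Epi (π p) := inferInstanceAs (Epi (cokernel.π _))
  rw [← cancel_epi (π p), ← Category.assoc, π_j, τ_trP, comp_zero]

include hp in
/-- First sequence. -/
theorem ses₁ : (ShortComplex.mk (ClSub.unitToPush p) (π p) (cokernel.condition _)).ShortExact :=
  haveI := mono_unit hp
  { exact := ShortComplex.exact_cokernel _
    mono_f := mono_unit hp
    epi_g := inferInstanceAs (Epi (cokernel.π _)) }

include hfree in
/-- Second sequence. -/
theorem ses₂ : (ShortComplex.mk (j hp σ) (t hp σ hσ) (j_t hp σ hσ)).ShortExact := by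
  have h1 : Epi (π p) := inferInstanceAs (Epi (cokernel.π _))
  have h2 := mono_unit hp
  refine { exact := ?_, mono_f := ?_, epi_g := epi_t hp σ hσ hfree }
  · let φ : ShortComplex.mk (τ hp σ) (trP hp) (τ_trP hp σ) ⟶ ShortComplex.mk (j hp σ) (trP hp) (by
        rw [← t_unit hp σ hσ, ← Category.assoc, j_t, zero_comp]) :=
      { τ₁ := π p, τ₂ := 𝟙 _, τ₃ := 𝟙 _, comm₁₂ := by simp [π_j], comm₂₃ := by simp }
    have e1 := (ShortComplex.exact_iff_of_epi_of_isIso_of_mono φ).1 (exact_τ_trP hp σ hσ hfree)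
    let ψ : ShortComplex.mk (j hp σ) (t hp σ hσ) (j_t hp σ hσ) ⟶ ShortComplex.mk (j hp σ) (trP hp) (by
        rw [← t_unit hp σ hσ, ← Category.assoc, j_t, zero_comp]) :=
      { τ₁ := 𝟙 _, τ₂ := 𝟙 _, τ₃ := ClSub.unitToPush p, comm₁₂ := by simp, comm₂₃ := by simp [t_unit] }
    have : Mono ψ.τ₃ := h2
    exact (ShortComplex.exact_iff_of_epi_of_isIso_of_mono ψ).2 e1
  · exact (exact_unit_τ hp σ hσ).mono_cokernelDesc

end Main

end K934.TorsSeq
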