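import Groth.Agent.Lift.K934.InvJets
import Groth.Agent.Lift.K934.NoZero
import Mathlib.Algebra.CharP.Lemmas
import Mathlib.Data.ZMod.Basic
import Mathlib.FieldTheory.Finite.Basic

/-!
# The action of `ℤ/p` on `k^{2m}` by `m` Jordan blocks of size two
-/

set_option autoImplicit false
universe u

open MvPolynomial

namespace K934.ZpAct

open LefPen Groth.Agent Groth.Agent.Lefpen Groth.Agent.Lefpen.H170 Groth.Agent.Lefpen.H170.LinAut K934.InvJets

variable {k : Type u} [Field k] {m r : ℕ} (e : Fin m ⊕ Fin m ≃ Fin (r + 1))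

/-- The nilpotent endomorphism. -/
def N : (Fin (r + 1) → k) →ₗ[k] (Fin (r + 1) → k) where
  toFun v i := Sum.elim (fun j => v (e (Sum.inr j))) (fun _ => 0) (e.symm i)
  map_add' v w := by
    funext i
    rcases h : e.symm i with j | j <;> simp [h]
  map_smul' c v := by
    funext i
    rcases h : e.symm i with j | j <;> simp [h]

theorem N_inl (v : Fin (r + 1) → k) (j : Fin m) : N e v (e (Sum.inl j)) = v (e (Sum.inr j)) := by
  simp [N]

theorem N_inr (v : Fin (r + 1) → k) (j : Fin m) : N e v (e (Sum.inr j)) = 0 := by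
  simp [N]

theorem N_N (v : Fin (r + 1) → k) : N e (N e v) = 0 := by
  funext i
  obtain ⟨i, rfl⟩ := e.surjective i
  rcases i with j | j
  · rw [N_inl, N_inr]; rfl
  · rw [N_inr]; rfl

/-- `1 + aN`. -/
def T (a : k) : (Fin (r + 1) → k) ≃ₗ[k] (Fin (r + 1) → k) :=
  LinearEquiv.ofLinearMap (LinearMap.id + a • N e) (LinearMap.id + (-a) • N e)
    (by
      ext1
      refine LinearMap.ext fun c => ?_
      simp [N_N])
    (by
      ext1
      refine LinearMap.ext fun c => ?_
      simp [N_N])

theorem T_apply (a : k) (v : Fin (r + 1) → k) : T e a v = v + a • N e v := rfl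

theorem T_add (a b : k) : T e (a + b) = T e a * T e b := by
  apply LinearEquiv.ext
  intro v
  change T e (a + b) v = T e a (T e b v)
  simp only [T_apply, map_add, map_smul, N_N, smul_zero, add_zero, add_smul]
  abel

theorem T_zero : T e (0 : k) = 1 := by
  apply LinearEquiv.ext
  intro v
  rw [T_apply, zero_smul, add_zero]
  rfl

variable (pc : ℕ) [Fact pc.Prime] [CharP k pc]

/-- The group. -/
abbrev G : Type u := ULift.{u} (Multiplicative (ZMod pc))

/-- The scalar of a group element. -/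
def sc (g : G.{u} pc) : k := ZMod.castHom (dvd_refl pc) k (Multiplicative.toAdd g.down)

variable {pc} in
theorem sc_mul (g h : G.{u} pc) : (sc pc (g * h) : k) = sc pc g + sc pc h := by
  simp [sc]

theorem sc_one : (sc pc (1 : G.{u} pc) : k) = 0 := by
  simp [sc]

variable {pc} in
theorem eq_one_of_sc (g : G.{u} pc) (h : (sc pc g : k) = 0) : g = 1 := by
  have h1 : Multiplicative.toAdd g.down = 0 := by
    apply ZMod.castHom_injective (n := pc) k
    rw [map_zero]
    exact h
  apply ULift.ext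
  exact Multiplicative.toAdd.injective h1

variable {pc} in
theorem sc_pow (g : G.{u} pc) : (sc pc g : k) ^ pc = sc pc g := by
  rw [sc, ← map_pow, ZMod.pow_card]

/-- The action. -/
def τ : G.{u} pc →* ((Fin (r + 1) → k) ≃ₗ[k] (Fin (r + 1) → k)) where
  toFun g := T e (sc pc g)
  map_one' := by rw [sc_one, T_zero]
  map_mul' g h := by rw [sc_mul, T_add]

theorem τ_apply (g : G.{u} pc) (v : Fin (r + 1) → k) : τ e pc g v = v + (sc pc g : k) • N e v := rfl

/-- A generator. -/
def σ : G.{u} pc := ⟨Multiplicative.ofAdd 1⟩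

theorem mem_zpowers (g : G.{u} pc) : g ∈ Subgroup.zpowers (σ pc) := by
  refine ⟨((Multiplicative.toAdd g.down).val : ℤ), ?_⟩
  have := Fact.out (p := pc.Prime)
  have : NeZero pc := ⟨this.ne_zero⟩
  apply ULift.ext
  change (σ pc ^ ((Multiplicative.toAdd g.down).val : ℤ)).down = g.down
  rw [zpow_natCast]
  change (Multiplicative.ofAdd (1 : ZMod pc)) ^ (Multiplicative.toAdd g.down).val = g.down
  apply Multiplicative.toAdd.injective
  rw [toAdd_pow, toAdd_ofAdd, nsmul_eq_mul, mul_one, ZMod.natCast_val, ZMod.cast_id]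

theorem card_G : Fintype.card (G.{u} pc) = pc := by
  rw [Fintype.card_ulift, Fintype.card_multiplicative, ZMod.card]

/-- The fixed linear forms. -/
noncomputable def b (j : Fin m) : Form r k 1 := ⟨X (e (Sum.inr j)), isHomogeneous_X _ _⟩

/-- The norm of the other coordinates. -/
noncomputable def E (j : Fin m) : Form r k (2 * pc) :=
  ⟨(X (e (Sum.inl j)) ^ pc - X (e (Sum.inl j)) * X (e (Sum.inr j)) ^ (pc - 1)) ^ 2, by
    have h1 : ((X (e (Sum.inl j)) : MvPolynomial (Fin (r + 1)) k) ^ pc).IsHomogeneous pc := by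
      simpa using (isHomogeneous_X k (e (Sum.inl j))).pow pc
    have h2 : ((X (e (Sum.inl j)) : MvPolynomial (Fin (r + 1)) k) * X (e (Sum.inr j)) ^ (pc - 1)).IsHomogeneous pc := by
      have h3 := (isHomogeneous_X k (e (Sum.inl j))).mul ((isHomogeneous_X k (e (Sum.inr j))).pow (pc - 1))
      have h4 : 1 + 1 * (pc - 1) = pc := by
        have := (Fact.out : pc.Prime).one_lt
        omega
      rwa [h4] at h3
    have h5 := (h1.sub h2).pow 2
    rw [mul_comm pc 2] at h5
    exact (mem_homogeneousSubmodule _ _).2 h5⟩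

theorem E_mem [Infinite k] (j : Fin m) : E e pc j ∈ inv (τ (k := k) e pc) (2 * pc) := by
  intro g
  refine MvPolynomial.funext fun v => ?_
  rw [LinAut.eval_sub]
  change eval (τ e pc g v) _ = _
  simp only [E, map_pow, map_sub, map_mul, eval_X, τ_apply, Pi.add_apply, Pi.smul_apply, N_inl, N_inr, smul_eq_mul,
    mul_zero, add_zero]
  congr 1
  have h1 : (1 : ℕ) ≤ pc := (Fact.out : pc.Prime).one_lt.le
  have h2 : v (e (Sum.inr j)) ^ pc = v (e (Sum.inr j)) * v (e (Sum.inr j)) ^ (pc - 1) := by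
    rw [← pow_succ', Nat.sub_add_cancel h1]
  rw [add_pow_char, mul_pow, sc_pow, h2]
  ring

theorem free (v : Fin (r + 1) → k) (hv : ∃ l, eval v (b e l : Form r k 1).1 ≠ 0) (g : G.{u} pc) (hg : g ≠ 1) (c : k) :
    τ e pc g v ≠ c • v := by
  obtain ⟨l, hl⟩ := hv
  have hl' : v (e (Sum.inr l)) ≠ 0 := by simpa [b] using hl
  intro h
  have h1 := congrFun h (e (Sum.inr l))
  have h2 := congrFun h (e (Sum.inl l))
  simp only [τ_apply, Pi.add_apply, Pi.smul_apply, N_inl, N_inr, smul_eq_mul, mul_zero, add_zero] at h1 h2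
  have hc : c = 1 := by
    have : (c - 1) * v (e (Sum.inr l)) = 0 := by rw [sub_mul, ← h1]; ring
    rcases mul_eq_zero.1 this with h | h
    · exact sub_eq_zero.1 h
    · exact absurd h hl'
  rw [hc, one_mul, add_eq_left] at h2
  rcases mul_eq_zero.1 h2 with h | h
  · exact hg (eq_one_of_sc g h)
  · exact hl' h

theorem mem_idl (Q : Form r k (m * (2 * pc) + 1)) :
    Q.1 ∈ NoZero.idl (fun j => (E (k := k) e pc j).1) (fun l => (b e l : Form r k 1).1) := by
  classical
  set I := NoZero.idl (fun j => (E (k := k) e pc j).1) (fun l => (b e l : Form r k 1).1) with hI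
  have hb : ∀ l, (X (e (Sum.inr l)) : MvPolynomial (Fin (r + 1)) k) ∈ I := fun l =>
    Ideal.subset_span (Or.inr ⟨l, rfl⟩)
  have hE : ∀ j, (E (k := k) e pc j).1 ∈ I := fun j => Ideal.subset_span (Or.inl ⟨j, rfl⟩)
  have hX : ∀ j, (X (e (Sum.inl j)) : MvPolynomial (Fin (r + 1)) k) ^ (2 * pc) ∈ I := by
    intro j
    have h1 := hE j
    have h2 := I.mul_mem_left (X (e (Sum.inl j))) (I.mul_mem_left (X (e (Sum.inr j)) ^ (pc - 1 - 1)) (hb j))
    rw [← pow_succ, Nat.sub_add_cancel (by have := (Fact.out : pc.Prime).one_lt; omega)] at h2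
    set x := (X (e (Sum.inl j)) : MvPolynomial (Fin (r + 1)) k) ^ pc
    set y := (X (e (Sum.inl j)) : MvPolynomial (Fin (r + 1)) k) * X (e (Sum.inr j)) ^ (pc - 1)
    have h3 : (X (e (Sum.inl j)) : MvPolynomial (Fin (r + 1)) k) ^ (2 * pc) = (x - y) ^ 2 + (2 * x - y) * y := by
      rw [mul_comm, pow_mul]
      ring
    rw [h3]
    exact I.add_mem h1 (I.mul_mem_left _ h2)
  have hmon : ∀ d : Fin (r + 1) →₀ ℕ, d.degree = m * (2 * pc) + 1 → ∀ c : k, monomial d c ∈ I := by
    intro d hd c
    by_cases h : ∃ l, d (e (Sum.inr l)) ≠ 0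
    · obtain ⟨l, hl⟩ := h
      have h1 : monomial d c = monomial (d - Finsupp.single (e (Sum.inr l)) 1) c * X (e (Sum.inr l)) := by
        rw [X, monomial_mul, mul_one, tsub_add_cancel_of_le]
        rw [Finsupp.single_le_iff]
        omega
      rw [h1]
      exact I.mul_mem_left _ (hb l)
    · push Not at h
      obtain ⟨j, hj⟩ : ∃ j, 2 * pc ≤ d (e (Sum.inl j)) := by
        by_contra hcon
        push Not at hcon
        have h1 : d.degree = ∑ i, d i := Finsupp.degree_eq_sum d
        rw [← Equiv.sum_comp e, Fintype.sum_sum_type] at h1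
        simp only [h, Finset.sum_const_zero, add_zero] at h1
        have h2 : ∑ j, d (e (Sum.inl j)) ≤ ∑ _j : Fin m, 2 * pc := Finset.sum_le_sum fun j _ => (hcon j).le
        rw [Finset.sum_const, Finset.card_univ, Fintype.card_fin, smul_eq_mul] at h2
        omega
      have h1 : monomial d c = monomial (d - Finsupp.single (e (Sum.inl j)) (2 * pc)) c *
          X (e (Sum.inl j)) ^ (2 * pc) := by
        rw [X_pow_eq_monomial, monomial_mul, mul_one, tsub_add_cancel_of_le]
        rwa [Finsupp.single_le_iff]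
      rw [h1]
      exact I.mul_mem_left _ (hX j)
  rw [Q.1.as_sum]
  refine Ideal.sum_mem _ fun d hd => hmon d ?_ _
  have h := (mem_homogeneousSubmodule _ _).1 Q.2 (mem_support_iff.1 hd)
  rw [← h]
  exact DFunLike.congr_fun Finsupp.degree_eq_weight_one d

end K934.ZpAct
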